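import Cfsg.Agent.Lib.Components.PComponentQuot
import Cfsg.Agent.Lib.Balance.PComp
import Cfsg.Agent.Lib.FTConsumers.Hyp


/-!
# 2-components of subgroups, inside the ambient group

`PC J H`: `J` is a 2-component of `H`.  All facts are stated modulo `cr H = O(H)` inside the ambient
group.  `Typ S J`: `J` maps onto the simple group `S` with solvable kernel.
-/

set_option autoImplicit false
set_option linter.unusedSectionVars false
set_option linter.style.haveILetI false

namespace Cfsg.Agent.SL2Comp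

open Subgroup Cfsg
open scoped commutatorElement

universe u

local instance : Fact (Nat.Prime 2) := ⟨Nat.prime_two⟩



variable {G : Type u} [Group G] [Finite G]

/-- `O(H)` inside the ambient group. -/
abbrev cr (H : Subgroup G) : Subgroup G := Balance.core' 2 H

/-- The centraliser of an element. -/
abbrev cz (x : G) : Subgroup G := centralizer ({x} : Set G)

theorem mem_cz {x g : G} : g ∈ cz x ↔ g * x = x * g := mem_centralizer_singleton_iff

/-- Conjugate subgroup. -/
abbrev cmap (g : G) (A : Subgroup G) : Subgroup G := A.map (MulAut.conj g).toMonoidHom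

theorem mem_cmap {g x : G} {A : Subgroup G} : x ∈ cmap g A ↔ g⁻¹ * x * g ∈ A := by
  rw [cmap, mem_map_equiv]
  simp [MulAut.conj_symm_apply]

theorem conj_mem_cmap {g x : G} {A : Subgroup G} (hx : x ∈ A) : g * x * g⁻¹ ∈ cmap g A :=
  ⟨x, hx, rfl⟩

theorem cmap_cmap (g h : G) (A : Subgroup G) : cmap g (cmap h A) = cmap (g * h) A := by
  ext x; simp only [mem_cmap, mul_inv_rev]; group

theorem cmap_one (A : Subgroup G) : cmap (1 : G) A = A := by ext x; simp [mem_cmap]

theorem cmap_eq_of_mem_normalizer {g : G} {A : Subgroup G} (h : g ∈ normalizer (A : Set G)) :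
    cmap g A = A := by
  ext x
  rw [mem_cmap, mem_normalizer_iff.1 h (g⁻¹ * x * g)]
  simp [mul_assoc]

theorem mem_normalizer_of_cmap_eq {g : G} {A : Subgroup G} (h : cmap g A = A) :
    g ∈ normalizer (A : Set G) :=
  mem_normalizer_iff.2 fun x => by
    conv_rhs => rw [← h, mem_cmap]
    simp [mul_assoc]

theorem cmap_mono (g : G) {A B : Subgroup G} (h : A ≤ B) : cmap g A ≤ cmap g B := map_mono h

theorem cmap_cz (g x : G) : cmap g (cz x) = cz (g * x * g⁻¹) := by
  ext y
  rw [mem_cmap, mem_cz, mem_cz]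
  constructor <;> intro h
  · calc y * (g * x * g⁻¹) = g * (g⁻¹ * y * g * x) * g⁻¹ := by group
      _ = g * (x * (g⁻¹ * y * g)) * g⁻¹ := by rw [h]
      _ = g * x * g⁻¹ * y := by group
  · calc g⁻¹ * y * g * x = g⁻¹ * (y * (g * x * g⁻¹)) * g := by group
      _ = g⁻¹ * (g * x * g⁻¹ * y) * g := by rw [h]
      _ = x * (g⁻¹ * y * g) := by group

/-- The quotient map modulo the core. -/
abbrev qm (H : Subgroup G) : ↥H →* ↥H ⧸ pPrimeCore 2 ↥H := QuotientGroup.mk' _

/-- The image of a subgroup modulo the core. -/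
abbrev img (J H : Subgroup G) : Subgroup (↥H ⧸ pPrimeCore 2 ↥H) := (J.subgroupOf H).map (qm H)

theorem mem_cr_iff {H : Subgroup G} {x : G} (hx : x ∈ H) :
    x ∈ cr H ↔ qm H ⟨x, hx⟩ = 1 := by
  rw [QuotientGroup.mk'_apply, QuotientGroup.eq_one_iff]
  exact ⟨fun ⟨y, hy, he⟩ => by obtain rfl : y = ⟨x, hx⟩ := Subtype.ext he; exact hy,
    fun h => ⟨_, h, rfl⟩⟩

theorem odd_orderOf_cr {H : Subgroup G} {x : G} (hx : x ∈ cr H) : Odd (orderOf x) :=
  Nat.coprime_two_right.1 (Balance.coprime_orderOf_of_mem_core' hx)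

/-- A 2-element of the core is trivial. -/
theorem eq_one_of_mem_cr {H : Subgroup G} {x : G} (hx : x ∈ cr H) {k : ℕ} (hk : x ^ 2 ^ k = 1) :
    x = 1 :=
  orderOf_eq_one_iff.1 (Nat.eq_one_of_dvd_coprimes
    (((Balance.coprime_orderOf_of_mem_core' hx)).pow_right k) dvd_rfl (orderOf_dvd_of_pow_eq_one hk))

theorem eq_one_of_mem_cr_pGroup {H T : Subgroup G} (hT : IsPGroup 2 ↥T) {x : G} (hx : x ∈ cr H)
    (hxT : x ∈ T) : x = 1 :=
  Balance.eq_one_of_mem_pGroup_of_coprime hT hxT (Balance.coprime_orderOf_of_mem_core' hx)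

theorem conj_mem_cr {H : Subgroup G} {g x : G} (hg : g ∈ normalizer (H : Set G)) (hx : x ∈ cr H) :
    g * x * g⁻¹ ∈ cr H :=
  (mem_normalizer_iff.1 (Balance.normalizer_le_normalizer_core' H hg) x).1 hx

theorem commutator_le_cr_iff {A B H : Subgroup G} (hA : A ≤ H) (hB : B ≤ H) :
    ⁅A, B⁆ ≤ cr H ↔ ⁅img A H, img B H⁆ = ⊥ := by
  rw [← map_commutator, Subgroup.map_eq_bot_iff, QuotientGroup.ker_mk',
    ← map_le_map_iff_of_injective H.subtype_injective, map_commutator,
    map_subgroupOf_eq_of_le hA, map_subgroupOf_eq_of_le hB]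

/-- `J` is a 2-component of `H`. -/
structure PC (J H : Subgroup G) : Prop where
  le : J ≤ H
  comp : IsPComponent 2 (J.subgroupOf H)

namespace PC

variable {J L H : Subgroup G}

theorem img_comp (h : PC J H) : IsComponent (img J H) := h.comp.2.1

theorem perfect (h : PC J H) : ⁅J, J⁆ = J := by
  have := congrArg (Subgroup.map H.subtype) (Components.IsPComponent.commutator_self h.comp)
  rwa [map_commutator, map_subgroupOf_eq_of_le h.le] at this

theorem not_commutator_le (h : PC J H) : ¬ ⁅J, J⁆ ≤ cr H := fun hc => by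
  rw [commutator_le_cr_iff h.le h.le, Components.IsComponent.commutator_self h.img_comp] at hc
  exact Components.IsComponent.ne_bot h.img_comp hc

theorem not_le_cr (h : PC J H) : ¬ J ≤ cr H := fun hc => h.not_commutator_le (h.perfect.le.trans hc)

theorem eq_of_img_eq (h : PC J H) (h' : PC L H) (he : img J H = img L H) : J = L := by
  have := congrArg (Subgroup.map H.subtype) (Components.IsPComponent.eq_of_map_eq h.comp h'.comp he)
  rwa [map_subgroupOf_eq_of_le h.le, map_subgroupOf_eq_of_le h'.le] at this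

theorem img_ne (h : PC J H) (h' : PC L H) (hne : J ≠ L) : img J H ≠ img L H := fun he =>
  hne (h.eq_of_img_eq h' he)

theorem commutator_le (h : PC J H) (h' : PC L H) (hne : J ≠ L) : ⁅J, L⁆ ≤ cr H := by
  rw [commutator_le_cr_iff h.le h'.le]
  exact Components.IsComponent.commutator_eq_bot h.img_comp h'.img_comp (h.img_ne h' hne)

/-- An element of two distinct components is central modulo the core. -/
theorem central_of_mem (h : PC J H) (h' : PC L H) (hne : J ≠ L) {x : G} (hx : x ∈ L) :
    ∀ j ∈ J, ⁅j, x⁆ ∈ cr H := fun _ hj => h.commutator_le h' hne (commutator_mem_commutator hj hx)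

theorem mem_normalizer_of_subgroupOf (hJ : J ≤ H) {g : G} (hg : g ∈ H)
    (h : (⟨g, hg⟩ : ↥H) ∈ normalizer ((J.subgroupOf H : Subgroup ↥H) : Set ↥H)) :
    g ∈ normalizer (J : Set G) := by
  rw [mem_normalizer_iff]
  intro x
  constructor <;> intro hx
  · exact (mem_normalizer_iff.1 h ⟨x, hJ hx⟩).1 hx
  · have hx' : g⁻¹ * (g * x * g⁻¹) * g ∈ H := mul_mem (mul_mem (inv_mem hg) (hJ hx)) hg
    have e : g⁻¹ * (g * x * g⁻¹) * g = x := by group
    rw [e] at hx'
    exact (mem_normalizer_iff.1 h ⟨x, hx'⟩).2 hx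

theorem subgroupOf_mem_normalizer {g : G} (hg : g ∈ H) (h : g ∈ normalizer (J : Set G)) :
    (⟨g, hg⟩ : ↥H) ∈ normalizer ((J.subgroupOf H : Subgroup ↥H) : Set ↥H) :=
  mem_normalizer_iff.2 fun x => mem_normalizer_iff.1 h (x : G)

theorem le_normalizer (h : PC J H) (h' : PC L H) : L ≤ normalizer (J : Set G) := fun g hg =>
  mem_normalizer_of_subgroupOf h.le (h'.le hg)
    (Components.IsPComponent.le_normalizer h.comp h'.comp (mem_subgroupOf.2 hg))

theorem cr_le_normalizer (h : PC J H) : cr H ≤ normalizer (J : Set G) := by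
  rintro _ ⟨g, hg, rfl⟩
  exact mem_normalizer_of_subgroupOf h.le g.2 (Components.IsPComponent.pPrimeCore_le_normalizer h.comp hg)

theorem isPQT (h : PC J H) : Balance.IsPQT 2 (J.subgroupOf H) := Balance.isPQT_of_isPComponent h.comp

/-- A subgroup normalised by `H` contains a component or commutes with it modulo the core. -/
theorem le_or_commutator_le (h : PC J H) {M : Subgroup G} (hMH : M ≤ H)
    (hM : H ≤ normalizer (M : Set G)) : J ≤ M ∨ ⁅J, M⁆ ≤ cr H := by
  have : (M.subgroupOf H).Normal := normal_subgroupOf_of_le_normalizer hM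
  rcases (h.isPQT).le_or_commutator_le_of_normal h.comp.1 (M := M.subgroupOf H) with he | he
  · left
    have := map_mono (f := H.subtype) he
    rwa [map_subgroupOf_eq_of_le h.le, map_subgroupOf_eq_of_le hMH] at this
  · right
    have := map_mono (f := H.subtype) he
    rwa [map_commutator, map_subgroupOf_eq_of_le h.le, map_subgroupOf_eq_of_le hMH] at this

/-- The same for a subnormal subgroup. -/
theorem le_or_commutator_le_of_isSubnormal (h : PC J H) {M : Subgroup G} (hMH : M ≤ H)
    (hM : (M.subgroupOf H).IsSubnormal) : J ≤ M ∨ ⁅J, M⁆ ≤ cr H := by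
  have hM' : (img M H).IsSubnormal := hM.map (QuotientGroup.mk'_surjective _)
  rcases Components.IsComponent.le_or_commutator_eq_bot h.img_comp hM' with he | he
  · left
    rw [Subgroup.map_le_map_iff, QuotientGroup.ker_mk'] at he
    have h2 : J.subgroupOf H ≤ M.subgroupOf H := h.isPQT.gen.trans (Balance.pGen_le_iff.2 fun y hy ⟨k, hk⟩ =>
      Balance.mem_of_mem_sup hM PCore.coprime_card_pPrimeCore (he hy) hk)
    have := map_mono (f := H.subtype) h2
    rwa [map_subgroupOf_eq_of_le h.le, map_subgroupOf_eq_of_le hMH] at this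
  · exact Or.inr ((commutator_le_cr_iff h.le hMH).2 he)

theorem conj (h : PC J H) (g : G) : PC (cmap g J) (cmap g H) where
  le := cmap_mono g h.le
  comp := by
    let e : ↥H ≃* ↥(cmap g H) := H.equivMapOfInjective _ (MulAut.conj g).injective
    have he : (J.subgroupOf H).map e.toMonoidHom = (cmap g J).subgroupOf (cmap g H) := by
      ext ⟨y, hy⟩
      rw [mem_subgroupOf, mem_map]
      constructor
      · rintro ⟨x, hx, hxy⟩
        exact ⟨x, hx, congrArg Subtype.val hxy⟩
      · rintro ⟨x, hx, hxy⟩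
        exact ⟨⟨x, h.le hx⟩, hx, Subtype.ext hxy⟩
    exact he ▸ Components.IsPComponent.map_equiv h.comp e

theorem conj_mem (h : PC J H) {g : G} (hg : g ∈ normalizer (H : Set G)) : PC (cmap g J) H := by
  simpa only [cmap_eq_of_mem_normalizer hg] using h.conj g

theorem conj_cz {z : G} (h : PC J (cz z)) (g : G) : PC (cmap g J) (cz (g * z * g⁻¹)) := by
  simpa only [cmap_cz] using h.conj g

theorem conj_of_mem (h : PC J H) {g : G} (hg : g ∈ H) : PC (cmap g J) H :=
  h.conj_mem (Subgroup.le_normalizer hg)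

theorem inter_central (h : PC J H) {g : G} (hg : g ∈ H) (hne : g ∉ normalizer (J : Set G)) {x : G}
    (hx : x ∈ cmap g J) : ∀ j ∈ J, ⁅j, x⁆ ∈ cr H :=
  h.central_of_mem (h.conj_of_mem hg) (fun he => hne (mem_normalizer_of_cmap_eq he.symm)) hx

/-- The layer of `H`. -/
theorem le_layer (h : PC J H) : J ≤ (pLayer 2 ↥H).map H.subtype := by
  rw [← map_subgroupOf_eq_of_le h.le]
  exact map_mono (Components.IsPComponent.le_pLayer h.comp)

theorem layer_le_normalizer (h : PC J H) :
    (pLayer 2 ↥H).map H.subtype ≤ normalizer (J : Set G) := by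
  rintro _ ⟨g, hg, rfl⟩
  exact mem_normalizer_of_subgroupOf h.le g.2 (Components.IsPComponent.pLayer_le_normalizer h.comp hg)

end PC

theorem normalizer_le_normalizer_layer (H : Subgroup G) :
    normalizer (H : Set G) ≤ normalizer (((pLayer 2 ↥H).map H.subtype : Subgroup G) : Set G) :=
  haveI : (pLayer 2 ↥H).Characteristic := Components.pLayer_characteristic
  Components.normalizer_le_normalizer_map_of_characteristic H _

/-- `J` maps onto `S` with solvable kernel. -/
def Typ (S : Type*) [Group S] (J : Subgroup G) : Prop :=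
  ∃ π : ↥J →* S, Function.Surjective π ∧ Group.IsSolvable π.ker

theorem Typ.cmap {S : Type*} [Group S] {J : Subgroup G} (h : Typ S J) (g : G) :
    Typ S (cmap g J) := by
  obtain ⟨π, hs, hk⟩ := h
  let e : ↥J ≃* ↥(SL2Comp.cmap g J) := J.equivMapOfInjective _ (MulAut.conj g).injective
  refine ⟨π.comp e.symm.toMonoidHom, hs.comp e.symm.surjective, ?_⟩
  haveI := hk
  let f : ↥(π.comp e.symm.toMonoidHom).ker →* ↥π.ker :=
    (e.symm.toMonoidHom.comp (π.comp e.symm.toMonoidHom).ker.subtype).codRestrict π.ker fun x => x.2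
  exact Group.isSolvable_of_isSolvable_injective (f := f) fun a b hab =>
    Subtype.ext (e.symm.injective (congrArg Subtype.val hab))

end Cfsg.Agent.SL2Comp
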