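import Cfsg.Agent.Lib.SL2Comp.Normalizes
import Cfsg.Agent.Lib.ZStar.Main

/-!
# Elements of order four of intrinsic components

`mem_normalizer_of_commute`: a 2-element of `K` of order at least four centralising `z` normalises `J`.
-/

set_option autoImplicit false
set_option linter.unusedSectionVars false
set_option linter.style.haveILetI false
set_option maxHeartbeats 1000000
set_option linter.unusedSimpArgs false

namespace Cfsg.Agent.SL2Comp

open Subgroup Cfsg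
open scoped commutatorElement

universe u

local instance : Fact (Nat.Prime 2) := ⟨Nat.prime_two⟩

variable {G : Type u} [Group G] [Finite G] {S : Type u} [Group S] [Finite S] [IsSimpleGroup S]

theorem exists_commuting_conj (hFT : FTConsumers.OddOrder.{u}) (hS : ¬ IsMulCommutative S)
    {α : MulAut S} (hα : α * α = 1) (h1 : α ≠ 1) :
    ∃ s : S, Commute α (MulAut.conj s * α * (MulAut.conj s)⁻¹) ∧
      MulAut.conj s * α * (MulAut.conj s)⁻¹ ≠ α := by
  by_contra hno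
  push Not at hno
  haveI : (Inn S).Normal := inferInstance
  set X := Inn S ⊔ zpowers α with hX
  have hαX : α ∈ X := mem_sup_right (mem_zpowers α)
  set a : ↥X := ⟨α, hαX⟩
  have ho : orderOf a = 2 := by
    rw [Subgroup.orderOf_mk]; exact orderOf_eq_prime (by rw [pow_two, hα]) h1
  have hiso : IsIsolatedInvolution a := by
    refine ⟨ho, fun g hg => ?_⟩
    obtain ⟨i, hi, w, hw, hiw⟩ := mem_sup_of_normal_left.1 g.2
    obtain ⟨s, rfl⟩ := hi
    obtain ⟨j, rfl⟩ := hw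
    have e : ((g * a * g⁻¹ : ↥X) : MulAut S) = MulAut.conj s * α * (MulAut.conj s)⁻¹ := by
      show (g : MulAut S) * α * (g : MulAut S)⁻¹ = _
      rw [← hiw]
      show MulAut.conj s * α ^ j * α * (MulAut.conj s * α ^ j)⁻¹ = _
      group
    refine Subtype.ext ?_
    rw [e]
    refine hno s ?_
    have : α * ((g * a * g⁻¹ : ↥X) : MulAut S) = ((g * a * g⁻¹ : ↥X) : MulAut S) * α :=
      congrArg Subtype.val hg.eq
    rw [e] at this
    exact this
  have hz := ZStar.inZStar hiso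
  haveI hOn : (pPrimeCore 2 ↥X).Normal := inferInstance
  set N := ((pPrimeCore 2 ↥X).map X.subtype ⊓ Inn S).comap (MulAut.conj : S →* MulAut S) with hN
  have hNn : N.Normal := ⟨fun n hn s => by
    obtain ⟨⟨w, hw, hwn⟩, hI⟩ := hn
    refine ⟨⟨⟨MulAut.conj s, mem_sup_left ⟨s, rfl⟩⟩ * w * ⟨MulAut.conj s, mem_sup_left ⟨s, rfl⟩⟩⁻¹,
      hOn.conj_mem w hw _, ?_⟩, ⟨_, rfl⟩⟩
    show MulAut.conj s * (w : MulAut S) * (MulAut.conj s)⁻¹ = MulAut.conj (s * n * s⁻¹)
    rw [map_mul, map_mul, map_inv, ← hwn]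
    rfl⟩
  have hNb : N = ⊥ := by
    rcases hNn.eq_bot_or_eq_top with h | h
    · exact h
    · exfalso
      haveI : Group.IsSolvable S := by
        refine hFT S ?_
        refine (Nat.coprime_two_right.1 (PCore.coprime_card_pPrimeCore (G := ↥X) (p := 2))).of_dvd_nat ?_
        let f : S →* ↥((pPrimeCore 2 ↥X).map X.subtype) :=
          (MulAut.conj : S →* MulAut S).codRestrict _ fun s => (show s ∈ N from h ▸ mem_top s).1
        refine (card_dvd_of_injective f fun u v huv =>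
          SylowCentralAut.conj_injective hS (congrArg Subtype.val huv)).trans ?_
        rw [card_map_of_injective X.subtype_injective]
      exact hS ⟨⟨IsSimpleGroup.comm_iff_isSolvable.2 inferInstance⟩⟩
  apply h1
  have hmem : α ∈ centralizer (Inn S : Set (MulAut S)) := by
    rw [mem_centralizer_iff]
    rintro _ ⟨s, rfl⟩
    set t := ((MulAut.conj s) * (α * (MulAut.conj s)⁻¹ * α⁻¹)) with ht
    have htI : t ∈ Inn S := mul_mem ⟨s, rfl⟩
      ((inferInstance : (Inn S).Normal).conj_mem _ (inv_mem ⟨s, rfl⟩) α)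
    have hα' : α⁻¹ = α := inv_eq_of_mul_eq_one_right hα
    have htO : t ∈ (pPrimeCore 2 ↥X).map X.subtype := by
      refine ⟨_, hz ⟨MulAut.conj s, mem_sup_left ⟨s, rfl⟩⟩, ?_⟩
      show MulAut.conj s * α * (MulAut.conj s)⁻¹ * α⁻¹ = t
      simp only [ht, mul_assoc]
    obtain ⟨r, hr⟩ := htI
    have hrN : r ∈ N := ⟨hr ▸ htO, ⟨r, rfl⟩⟩
    rw [hNb, mem_bot] at hrN
    rw [hrN, map_one] at hr
    have : MulAut.conj s * α * (MulAut.conj s)⁻¹ = α := by
      have h2 : t = 1 := hr.symm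
      rw [ht, ← mul_assoc, ← mul_assoc, mul_inv_eq_one] at h2
      exact h2
    exact mul_inv_eq_iff_eq_mul.1 this
  rw [SylowCentralAut.centralizer_inn hS] at hmem
  exact mem_bot.1 hmem

/-- An element of order four of `J` inverted by `k`, produced by a conjugate of `k`. -/
theorem exists_inverted (hFT : FTConsumers.OddOrder.{u}) (hS : ¬ IsMulCommutative S) {J : Subgroup G}
    {z k : G} (hJ : PC J (cz z)) (uJ : Uniq J z) (tJ : Typ S J) (hk : k ∈ cz z) (hk2 : k * k = 1)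
    (hkJ : k ∈ normalizer (J : Set G)) (hne : ∃ j ∈ J, ⁅k, j⁆ ∉ cr (cz z)) :
    ∃ x ∈ J, ∃ g ∈ J, x * x = z ∧ k * x * k⁻¹ = x⁻¹ ∧ g * k * g⁻¹ = k * x := by
  obtain ⟨π, hπ⟩ := exists_img_surjective hFT hS hJ tJ
  have hker := ker_eq_center hS hJ.img_comp.2 hπ
  haveI : Group.IsPerfect ↥(img J (cz z)) := hJ.img_comp.2.1
  let τ := Subgroup.normalizerMonoidHom (img J (cz z))
  let ad : ↥(cz z ⊓ normalizer (J : Set G)) →* MulAut ↥(img J (cz z)) :=
    τ.comp (((qm (cz z)).comp (Subgroup.inclusion inf_le_left)).codRestrict _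
      fun g => mem_normalizer_img g.2.1 g.2.2)
  set A := (descend π hπ hker).comp ad with hA
  set κ : ↥(cz z ⊓ normalizer (J : Set G)) := ⟨k, hk, hkJ⟩
  have hAJ : ∀ (j : G) (hj : j ∈ J), A ⟨j, hJ.le hj, Subgroup.le_normalizer hj⟩ =
      MulAut.conj (π ⟨qm (cz z) ⟨j, hJ.le hj⟩, mem_map_of_mem _ (mem_subgroupOf.2 hj)⟩) := by
    intro j hj
    ext s
    obtain ⟨b, rfl⟩ := hπ s
    rw [hA, MonoidHom.comp_apply, descend_apply hπ hker, MulAut.conj_apply, ← map_inv, ← map_mul, ← map_mul]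
    exact congrArg π (Subtype.ext rfl)
  have hA1 : A κ ≠ 1 := by
    intro h
    obtain ⟨j, hj, hn⟩ := hne
    apply hn
    have hz : ∀ b, ad κ b * b⁻¹ ∈ center ↥(img J (cz z)) := fun b => by
      rw [← hker, MonoidHom.mem_ker, map_mul, map_inv, ← descend_apply hπ hker (ad κ),
        show descend π hπ hker (ad κ) = 1 from h]
      simp
    let c : ↥(img J (cz z)) →* ↥(center ↥(img J (cz z))) :=
      { toFun := fun b => ⟨ad κ b * b⁻¹, hz b⟩
        map_one' := Subtype.ext (by simp)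
        map_mul' := fun a b => Subtype.ext (by
          show ad κ (a * b) * (a * b)⁻¹ = ad κ a * a⁻¹ * (ad κ b * b⁻¹)
          have h1 := mem_center_iff.1 (hz b) a⁻¹
          calc ad κ (a * b) * (a * b)⁻¹ = ad κ a * ((ad κ b * b⁻¹) * a⁻¹) := by rw [map_mul]; group
            _ = ad κ a * (a⁻¹ * (ad κ b * b⁻¹)) := by rw [h1]
            _ = ad κ a * a⁻¹ * (ad κ b * b⁻¹) := by group) }
    have hc1 := eq_one_of_solvable_range c (by
      haveI : Group.IsSolvable ↥(center ↥(img J (cz z))) :=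
        Group.isSolvable_of_comm fun a b => Subtype.ext (mem_center_iff.1 b.2 a)
      infer_instance)
    have h1 := congrArg Subtype.val (congrArg Subtype.val (DFunLike.congr_fun hc1
      ⟨qm (cz z) ⟨j, hJ.le hj⟩, mem_map_of_mem _ (mem_subgroupOf.2 hj)⟩))
    refine (mem_cr_iff (x := ⁅k, j⁆) (⁅(⟨k, hk⟩ : ↥(cz z)), (⟨j, hJ.le hj⟩ : ↥(cz z))⁆).2).2 ?_
    show qm (cz z) ⁅(⟨k, hk⟩ : ↥(cz z)), (⟨j, hJ.le hj⟩ : ↥(cz z))⁆ = 1
    rw [map_commutatorElement]
    exact h1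
  have hA2 : A κ * A κ = 1 := by
    rw [← map_mul, show κ * κ = 1 from Subtype.ext hk2, map_one]
  obtain ⟨s, hcom, hns⟩ := exists_commuting_conj hFT hS hA2 hA1
  obtain ⟨⟨_, ⟨g, hg, rfl⟩⟩, rfl⟩ := hπ s
  have hgJ : (g : G) ∈ J := mem_subgroupOf.1 hg
  set x₀ := k * (g : G) * k⁻¹ * (g : G)⁻¹ with hx₀
  have hx₀J : x₀ ∈ J := mul_mem ((mem_normalizer_iff.1 hkJ g).1 hgJ) (inv_mem hgJ)
  set γ : ↥(cz z ⊓ normalizer (J : Set G)) := ⟨g, g.2, Subgroup.le_normalizer hgJ⟩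
  have hγ : A γ = MulAut.conj (π ⟨qm (cz z) g, mem_map_of_mem _ hg⟩) := hAJ g hgJ
  have hkinv : k⁻¹ = k := inv_eq_of_mul_eq_one_right hk2
  set s₀ := π ⟨qm (cz z) ⟨x₀, hJ.le hx₀J⟩, mem_map_of_mem _ (mem_subgroupOf.2 hx₀J)⟩ with hs₀
  have hx₀A : MulAut.conj s₀ = A κ * (A γ * A κ * (A γ)⁻¹) := by
    rw [hs₀, ← hAJ x₀ hx₀J, ← map_inv, ← map_mul, ← map_mul, ← map_mul]
    refine congrArg A (Subtype.ext ?_)
    show x₀ = k * ((g : G) * k * (g : G)⁻¹)
    rw [hx₀, hkinv]; group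
  rw [← hγ] at hcom hns
  have hs1 : s₀ ≠ 1 := by
    intro h
    rw [h, map_one] at hx₀A
    exact hns ((eq_inv_of_mul_eq_one_right hx₀A.symm).trans (inv_eq_of_mul_eq_one_right hA2))
  have hs2 : s₀ * s₀ = 1 := by
    refine SylowCentralAut.conj_injective hS ?_
    rw [map_mul, map_one, hx₀A]
    set B := A γ * A κ * (A γ)⁻¹ with hB
    rw [show A κ * B * (A κ * B) = A κ * A κ * (B * B) by
      rw [mul_assoc (A κ), ← mul_assoc B (A κ), ← hcom.eq]; simp only [mul_assoc], hA2, one_mul, hB]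
    calc A γ * A κ * (A γ)⁻¹ * (A γ * A κ * (A γ)⁻¹) = A γ * (A κ * A κ) * (A γ)⁻¹ := by group
      _ = 1 := by rw [hA2]; group
  obtain ⟨t, r, hr, hord⟩ := Nat.exists_eq_pow_mul_and_not_dvd (orderOf_pos x₀).ne' 2 (by norm_num)
  obtain ⟨i, hi⟩ := Nat.odd_iff.2 (Nat.two_dvd_ne_zero.1 hr)
  set m := r * r with hm
  have hm2 : m = 2 * (2 * i * i + 2 * i) + 1 := by rw [hm, hi]; ring
  set l := 2 * i * i + 2 * i
  set x := x₀ ^ m with hx
  have hxJ : x ∈ J := pow_mem hx₀J m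
  have hxt : x ^ 2 ^ t = 1 := by
    rw [hx, ← pow_mul, ← orderOf_dvd_iff_pow_eq_one, hord]
    exact ⟨r, by rw [hm]; ring⟩
  have hxπ : ∀ (y : G) (hy : y ∈ J), π ⟨qm (cz z) ⟨y, hJ.le hy⟩, mem_map_of_mem _ (mem_subgroupOf.2 hy)⟩ = 1 →
      ∀ j ∈ J, ⁅j, y⁆ ∈ cr (cz z) := by
    intro y hy h1 j hj
    have hc : (⟨qm (cz z) ⟨y, hJ.le hy⟩, mem_map_of_mem _ (mem_subgroupOf.2 hy)⟩ : ↥(img J (cz z))) ∈
        center ↥(img J (cz z)) := hker ▸ MonoidHom.mem_ker.2 h1
    refine (mem_cr_iff (x := ⁅j, y⁆) (⁅(⟨j, hJ.le hj⟩ : ↥(cz z)), (⟨y, hJ.le hy⟩ : ↥(cz z))⁆).2).2 ?_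
    show qm (cz z) ⁅(⟨j, hJ.le hj⟩ : ↥(cz z)), (⟨y, hJ.le hy⟩ : ↥(cz z))⁆ = 1
    rw [map_commutatorElement, commutatorElement_eq_one_iff_mul_comm]
    exact congrArg Subtype.val
      (mem_center_iff.1 hc ⟨qm (cz z) ⟨j, hJ.le hj⟩, mem_map_of_mem _ (mem_subgroupOf.2 hj)⟩)
  have hπx : π ⟨qm (cz z) ⟨x, hJ.le hxJ⟩, mem_map_of_mem _ (mem_subgroupOf.2 hxJ)⟩ = s₀ := by
    have : s₀ ^ m = s₀ := by rw [hm2, pow_succ, pow_mul, pow_two, hs2, one_pow, one_mul]
    rw [← this, hs₀, ← map_pow]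
    exact congrArg π (Subtype.ext (by
      show qm (cz z) ⟨x, _⟩ = qm (cz z) ⟨x₀, _⟩ ^ m
      rw [← map_pow]
      rfl))
  have hxne : x ≠ 1 ∧ x ≠ z := by
    refine ⟨fun h => hs1 ?_, fun h => hs1 ?_⟩
    · rw [← hπx, ← map_one π]
      exact congrArg π (Subtype.ext (by
        show qm (cz z) ⟨x, _⟩ = 1
        rw [show (⟨x, hJ.le hxJ⟩ : ↥(cz z)) = 1 from Subtype.ext h, map_one]))
    · rw [← hπx]
      refine MonoidHom.mem_ker.1 (hker ▸ mem_center_iff.2 fun b => Subtype.ext ?_)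
      obtain ⟨_, w, -, rfl⟩ := b
      show qm (cz z) w * qm (cz z) ⟨x, _⟩ = qm (cz z) ⟨x, _⟩ * qm (cz z) w
      rw [← map_mul, ← map_mul]
      refine congrArg _ (Subtype.ext ?_)
      show (w : G) * x = x * w
      rw [h]; exact mem_cz.1 w.2
  have hxx : x * x = z := by
    have hcen : ∀ j ∈ J, ⁅j, x * x⁆ ∈ cr (cz z) := hxπ _ (mul_mem hxJ hxJ) (by
      rw [← hs2, ← hπx, ← map_mul]
      exact congrArg π (Subtype.ext (map_mul (qm (cz z)) ⟨x, hJ.le hxJ⟩ ⟨x, hJ.le hxJ⟩)))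
    rcases hJ.eq_one_or_of_central uJ (mul_mem hxJ hxJ) (k := t)
      (by rw [← pow_two, ← pow_mul, mul_comm, pow_mul, hxt, one_pow]) hcen with h | h
    · exact ((uJ.eq_or hxJ h).elim hxne.1 hxne.2).elim
    · exact h
  have hinv : k * x₀ * k⁻¹ = x₀⁻¹ := by
    rw [hx₀, hkinv]
    calc k * (k * (g : G) * k * (g : G)⁻¹) * k = (k * k) * (g : G) * k * (g : G)⁻¹ * k := by group
      _ = (k * (g : G) * k * (g : G)⁻¹)⁻¹ := by rw [hk2, mul_inv_rev, mul_inv_rev, mul_inv_rev, inv_inv, hkinv]; group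
  have hinvn : ∀ n : ℕ, k * x₀ ^ n * k⁻¹ = (x₀ ^ n)⁻¹ := fun n => by
    rw [← conj_pow, hinv, inv_pow]
  refine ⟨x, hxJ, (x₀ ^ l)⁻¹ * g, mul_mem (inv_mem (pow_mem hx₀J l)) hgJ, hxx, hinvn m, ?_⟩
  have e1 : (g : G) * k * (g : G)⁻¹ = k * x₀ := by
    rw [hx₀, hkinv, show k * (k * (g : G) * k * (g : G)⁻¹) = (k * k) * ((g : G) * k * (g : G)⁻¹) by group,
      hk2, one_mul]
  have e2 : (x₀ ^ l)⁻¹ * k = k * x₀ ^ l := by rw [← hinvn l]; group
  calc (x₀ ^ l)⁻¹ * (g : G) * k * ((x₀ ^ l)⁻¹ * (g : G))⁻¹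
      = (x₀ ^ l)⁻¹ * ((g : G) * k * (g : G)⁻¹) * x₀ ^ l := by group
    _ = ((x₀ ^ l)⁻¹ * k) * x₀ * x₀ ^ l := by rw [e1]; group
    _ = k * (x₀ ^ l * x₀ * x₀ ^ l) := by rw [e2]; group
    _ = k * x := by
      rw [hx, hm2, ← pow_succ, ← pow_add]
      congr 2
      omega

/-- A subgroup containing a moving element and normalised by a cover of `J` covers `J`. -/
theorem img_le_img {J H W : Subgroup G} (hJ : PC J H) {y : G} (hyH : y ∈ H)
    (hy : y ∉ normalizer (J : Set G)) (hWH : W ≤ H) (hyW : y ∈ W)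
    (hcov : ∀ x ∈ img J H, ∃ (m : G) (hm : m ∈ H), m ∈ normalizer (W : Set G) ∧ qm H ⟨m, hm⟩ = x) :
    img J H ≤ img W H := by
  set U := img W H with hU
  have hcU : ∀ x ∈ img J H, x ∈ normalizer ((U : Subgroup _) : Set (↥H ⧸ pPrimeCore 2 ↥H)) := by
    intro x hx
    obtain ⟨m, hm, hmn, rfl⟩ := hcov x hx
    exact mem_normalizer_img hm hmn
  set yb := qm H ⟨y, hyH⟩ with hyb
  have hybU : yb ∈ U := mem_map_of_mem _ (mem_subgroupOf.2 hyW)
  have hcom := Components.IsComponent.commutator_eq_bot (hJ.conj_of_mem hyH).img_comp hJ.img_comp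
    ((hJ.conj_of_mem hyH).img_ne hJ fun he => hy (mem_normalizer_of_cmap_eq he))
  rw [Subgroup.commutator_eq_bot_iff_le_centralizer] at hcom
  refine (Components.IsComponent.commutator_self hJ.img_comp).ge.trans ?_
  rw [Subgroup.commutator_le]
  intro x' hx' x hx
  have hw : yb * x⁻¹ * yb⁻¹ ∈ img (cmap y J) H := by
    obtain ⟨j, hj, hje⟩ := inv_mem hx
    refine ⟨⟨y, hyH⟩ * j * ⟨y, hyH⟩⁻¹, mem_subgroupOf.2 (conj_mem_cmap (mem_subgroupOf.1 hj)), ?_⟩
    rw [map_mul, map_mul, map_inv, hje]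
  have hwc : x' * (yb * x⁻¹ * yb⁻¹) = (yb * x⁻¹ * yb⁻¹) * x' := mem_centralizer_iff.1 (hcom hw) x' hx'
  have hu : x * (yb * x⁻¹ * yb⁻¹) ∈ U := by
    have := mul_mem ((mem_normalizer_iff.1 (hcU x hx) yb).1 hybU) (inv_mem hybU)
    rwa [show x * yb * x⁻¹ * yb⁻¹ = x * (yb * x⁻¹ * yb⁻¹) by group] at this
  have hu' := mul_mem ((mem_normalizer_iff.1 (hcU x' hx') _).1 hu) (inv_mem hu)
  have e : x' * (x * (yb * x⁻¹ * yb⁻¹)) * x'⁻¹ * (x * (yb * x⁻¹ * yb⁻¹))⁻¹ = ⁅x', x⁆ := by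
    set w := yb * x⁻¹ * yb⁻¹
    have hwc' : w * x'⁻¹ = x'⁻¹ * w := by
      calc w * x'⁻¹ = x'⁻¹ * (x' * w) * x'⁻¹ := by group
        _ = x'⁻¹ * (w * x') * x'⁻¹ := by rw [hwc]
        _ = x'⁻¹ * w := by group
    calc x' * (x * w) * x'⁻¹ * (x * w)⁻¹ = x' * x * (w * x'⁻¹) * w⁻¹ * x⁻¹ := by group
      _ = x' * x * (x'⁻¹ * w) * w⁻¹ * x⁻¹ := by rw [hwc']
      _ = ⁅x', x⁆ := by rw [commutatorElement_def]; group
  rwa [e] at hu'

theorem mem_normalizer_of_square (hFT : FTConsumers.OddOrder.{u}) (hS : ¬ IsMulCommutative S)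
    {J K : Subgroup G} {z k : G} (hJ : PC J (cz z)) (uJ : Uniq J z) (hK : PC K (cz k)) (uK : Uniq K k)
    (tJ : Typ S J) (tK : Typ S K) (hzk : z ≠ k) (hzK : z ∈ normalizer (K : Set G)) {y : G} (hy : y ∈ K)
    {n : ℕ} (hn : y ^ 2 ^ n = 1) (hy1 : y ≠ 1) (hyk : y ≠ k) (hyz : y * z = z * y)
    (hyy : y * y ∈ normalizer (J : Set G)) : y ∈ normalizer (J : Set G) := by
  have hkJ : k ∈ normalizer (J : Set G) := normalizes hFT hS hJ uJ hK uK tJ tK hzK
  by_contra hyJ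
  have hk2 : k * k = 1 := uK.sq
  have hz2 : z * z = 1 := uJ.sq
  have hk1 : k ≠ 1 := fun h => by have := uK.ord; rw [h, orderOf_one] at this; omega
  have hz1 : z ≠ 1 := fun h => by have := uJ.ord; rw [h, orderOf_one] at this; omega
  have hkinv : k⁻¹ = k := inv_eq_of_mul_eq_one_right hk2
  have hzinv : z⁻¹ = z := inv_eq_of_mul_eq_one_right hz2
  obtain ⟨i0, hi0⟩ := exists_pow_sq_eq uK hy hn hy1 hyk
  have hkz : k * z = z * k := by
    rw [← hi0, ← pow_add]; exact (Commute.pow_left hyz _).eq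
  have hyC : y ∈ cz z := mem_cz.2 hyz
  have hkC : k ∈ cz z := mem_cz.2 hkz
  have hzCk : z ∈ cz k := mem_cz.2 hkz.symm
  have hyCk : y ∈ cz k := hK.le hy
  have hyk' : y * k = k * y := mem_cz.1 hyCk
  have hne : J ≠ cmap y J := fun he => hyJ (mem_normalizer_of_cmap_eq he.symm)
  by_cases htriv : ∀ j ∈ J, ⁅k, j⁆ ∈ cr (cz z)
  · -- `k` centralises `J` modulo the core
    set D := cz z ⊓ cz k with hD
    set Lk := (pLayer 2 ↥(cz k)).map (cz k).subtype with hLk
    have hLn : cz k ≤ normalizer (Lk : Set G) := le_normalizer.trans (normalizer_le_normalizer_layer (cz k))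
    have hlift : ∀ x ∈ img J (cz z), ∃ (m : G) (hm : m ∈ cz z), m ∈ D ∧ qm (cz z) ⟨m, hm⟩ = x := by
      rintro _ ⟨g, hg, rfl⟩
      have hker : (Nat.card ↥(qm (cz z)).ker).Coprime 2 := by
        rw [QuotientGroup.ker_mk']; exact PCore.coprime_card_pPrimeCore
      have hR : IsPGroup 2 ↥(zpowers (⟨k, hkC⟩ : ↥(cz z))) :=
        isPGroup_zpowers (n := 1) (Subtype.ext (by simp [pow_two, hk2]))
      have hc : ∀ r ∈ zpowers (⟨k, hkC⟩ : ↥(cz z)), Commute (qm (cz z) g) (qm (cz z) r) := by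
        rintro _ ⟨m, rfl⟩
        rw [map_zpow]
        refine Commute.zpow_right (Commute.symm ?_) m
        refine commutatorElement_eq_one_iff_mul_comm.1 ?_
        rw [← map_commutatorElement]
        exact (mem_cr_iff (x := ⁅k, (g : G)⁆) (⁅(⟨k, hkC⟩ : ↥(cz z)), g⁆).2).1 (htriv g (mem_subgroupOf.1 hg))
      obtain ⟨n', hn', he⟩ := Balance.exists_mem_centralizer_of_map (qm (cz z)) hker hR hc
      refine ⟨n', n'.2, ⟨n'.2, mem_cz.2 ?_⟩, he⟩
      exact (congrArg Subtype.val (mem_centralizer_iff.1 hn' _ (mem_zpowers _))).symm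
    have hLD : D ≤ normalizer ((Lk ⊓ D : Subgroup G) : Set G) :=
      (le_inf (inf_le_right.trans hLn) le_normalizer).trans inf_normalizer_le_normalizer_inf
    have h1 : img J (cz z) ≤ img (Lk ⊓ D) (cz z) :=
      img_le_img hJ hyC hyJ (inf_le_right.trans inf_le_left) ⟨hK.le_layer hy, hyC, hyCk⟩ fun x hx => by
        obtain ⟨m, hm, hmD, he⟩ := hlift x hx
        exact ⟨m, hm, hLD hmD, he⟩
    have h2 : img J (cz z) ≤ img (K ⊓ D) (cz z) := by
      refine img_le_img hJ hyC hyJ (inf_le_right.trans inf_le_left) ⟨hy, hyC, hyCk⟩ fun x hx => ?_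
      obtain ⟨⟨m, hm⟩, hmm, he⟩ := h1 hx
      exact ⟨m, hm, inf_normalizer_le_normalizer_inf
        ⟨hK.layer_le_normalizer (mem_subgroupOf.1 hmm).1, Subgroup.le_normalizer (mem_subgroupOf.1 hmm).2⟩, he⟩
    obtain ⟨⟨w, hw⟩, hwK, hwe⟩ := h2 (mem_map_of_mem (qm (cz z))
      (mem_subgroupOf.2 uJ.mem : (⟨z, mem_cz.2 rfl⟩ : ↥(cz z)) ∈ J.subgroupOf (cz z)))
    set o := z * w with ho
    have hocr : o ∈ cr (cz z) := by
      refine (mem_cr_iff (mul_mem (mem_cz.2 rfl) hw)).2 ?_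
      show qm (cz z) (⟨z, mem_cz.2 rfl⟩ * ⟨w, hw⟩) = 1
      rw [map_mul, hwe, ← map_mul, show (⟨z, mem_cz.2 rfl⟩ : ↥(cz z)) * ⟨z, mem_cz.2 rfl⟩ = 1 from
        Subtype.ext hz2, map_one]
    obtain ⟨r, hr⟩ := odd_orderOf_cr hocr
    have h3 : o ^ (2 * r + 1) = 1 := hr ▸ pow_orderOf_eq_one o
    rw [ho, (show Commute z w from (mem_cz.1 hw).symm).mul_pow, pow_succ z, pow_mul, pow_two, hz2, one_pow,
      one_mul, mul_eq_one_iff_eq_inv] at h3
    have hzmem : z ∈ K := h3 ▸ inv_mem (pow_mem (mem_subgroupOf.1 hwK).1 _)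
    exact hzk (uK.only z hzmem uJ.ord)
  · push Not at htriv
    obtain ⟨x₁, hx₁J, g₁, hg₁J, hx₁2, hx₁k, hg₁k⟩ := exists_inverted hFT hS hJ uJ tJ hkC hk2 hkJ htriv
    set J' := cmap y J with hJ'
    have hkJ' : k ∈ normalizer (J' : Set G) := by
      refine mem_normalizer_of_cmap_eq ?_
      rw [hJ', cmap_cmap, ← hyk', ← cmap_cmap, cmap_eq_of_mem_normalizer hkJ]
    have hzJ' : z ∈ normalizer (J' : Set G) := by
      refine mem_normalizer_of_cmap_eq ?_
      rw [hJ', cmap_cmap, ← hyz, ← cmap_cmap, cmap_eq_of_mem_normalizer (Subgroup.le_normalizer uJ.mem)]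
    set V := closure ({z, k} : Set G) with hV
    have hzV : z ∈ V := subset_closure (Set.mem_insert _ _)
    have hkV : k ∈ V := subset_closure (Set.mem_insert_of_mem _ rfl)
    have hVc : ∀ v ∈ V, ∃ w, (w = 1 ∨ w = k) ∧ (v = w ∨ v = w * z) := by
      intro v hv
      induction hv using closure_induction with
      | mem v hv =>
        rcases hv with h | h
        · exact ⟨1, Or.inl rfl, Or.inr (by rw [h, one_mul])⟩
        · exact ⟨k, Or.inr rfl, Or.inl h⟩
      | one => exact ⟨1, Or.inl rfl, Or.inl rfl⟩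
      | mul v v' _ _ h h' =>
        obtain ⟨w, hw, hv⟩ := h
        obtain ⟨w', hw', hv'⟩ := h'
        have hww : w * w' = 1 ∨ w * w' = k := by
          rcases hw with h | h <;> rcases hw' with h' | h' <;> rw [h, h'] <;> simp [hk2]
        have hzw : z * w' = w' * z := by
          rcases hw' with h' | h' <;> rw [h']
          · rw [mul_one, one_mul]
          · exact hkz.symm
        refine ⟨w * w', hww, ?_⟩
        rcases hv with h | h <;> rcases hv' with h' | h' <;> rw [h, h']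
        · exact Or.inl rfl
        · exact Or.inr (mul_assoc _ _ _).symm
        · exact Or.inr (by rw [mul_assoc, hzw, ← mul_assoc])
        · left
          rw [mul_assoc w z, ← mul_assoc z w' z, hzw, mul_assoc w' z z, hz2, mul_one]
      | inv v _ h =>
        obtain ⟨w, hw, hv⟩ := h
        refine ⟨w, hw, ?_⟩
        have hw1 : w⁻¹ = w ∧ z * w = w * z := by
          rcases hw with h | h <;> rw [h] <;> simp [hkinv, hkz]
        rcases hv with h | h <;> rw [h]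
        · exact Or.inl hw1.1
        · exact Or.inr (by rw [mul_inv_rev, hw1.1, hzinv, hw1.2])
    have hnV : ∀ g : G, g * z * g⁻¹ ∈ V → g * k * g⁻¹ ∈ V → g ∈ normalizer (V : Set G) := by
      intro g h1 h2
      refine mem_normalizer_of_cmap_eq (Subgroup.eq_of_le_of_card_ge ?_
        (card_map_of_injective (MulAut.conj g).injective).ge)
      rw [cmap, map_le_iff_le_comap, hV, closure_le]
      rintro _ (rfl | rfl)
      · exact h1
      · exact h2
    set C3 := cz z ⊓ normalizer (J : Set G) ⊓ normalizer (J' : Set G) ⊓ normalizer (V : Set G) with hC3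
    have hx₁C : x₁ ∈ cz z := hJ.le hx₁J
    have hx₁kx : x₁ * k * x₁⁻¹ = k * z := by
      have e1 : k * x₁ * k = x₁⁻¹ := by rwa [hkinv] at hx₁k
      calc x₁ * k * x₁⁻¹ = k * (k * x₁ * k) * x₁⁻¹ := by
            rw [← mul_assoc k, ← mul_assoc k, hk2, one_mul]
        _ = k * (x₁ * x₁)⁻¹ := by rw [e1]; group
        _ = k * z := by rw [hx₁2, hzinv]
    have hx₁3 : x₁ ∈ C3 := by
      refine ⟨⟨⟨hx₁C, Subgroup.le_normalizer hx₁J⟩, hJ.conj_of_mem hyC |>.le_normalizer hJ hx₁J⟩, hnV _ ?_ ?_⟩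
      · rw [mem_cz.1 hx₁C, mul_inv_cancel_right]; exact hzV
      · rw [hx₁kx]; exact mul_mem hkV hzV
    have hswap : cmap y J' = J := by
      rw [hJ', cmap_cmap, cmap_eq_of_mem_normalizer hyy]
    have hyN : ∀ c ∈ C3, y * c * y⁻¹ ∈ C3 := by
      intro c hc
      obtain ⟨⟨⟨h1, h2⟩, h3⟩, h4⟩ := hc
      have hyinv : cmap y⁻¹ J = J' := by rw [← hswap, cmap_cmap, inv_mul_cancel, cmap_one]
      have hyinv' : cmap y⁻¹ J' = J := by rw [hJ', cmap_cmap, inv_mul_cancel, cmap_one]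
      refine ⟨⟨⟨(cz z).mul_mem ((cz z).mul_mem hyC h1) ((cz z).inv_mem hyC), mem_normalizer_of_cmap_eq ?_⟩,
        mem_normalizer_of_cmap_eq ?_⟩, ?_⟩
      · rw [← cmap_cmap, hyinv, ← cmap_cmap, cmap_eq_of_mem_normalizer h3, hswap]
      · rw [← cmap_cmap, hyinv', ← cmap_cmap, cmap_eq_of_mem_normalizer h2]
      · have hyV : y ∈ normalizer (V : Set G) := hnV _ (by rw [hyz, mul_inv_cancel_right]; exact hzV)
          (by rw [hyk', mul_inv_cancel_right]; exact hkV)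
        exact (normalizer (V : Set G)).mul_mem ((normalizer (V : Set G)).mul_mem hyV h4)
          ((normalizer (V : Set G)).inv_mem hyV)
    set W := C3 ⊔ zpowers y with hW
    set U := zpowers z ⊔ zpowers y with hU
    have hU2 : IsPGroup 2 ↥U := by
      refine IsPGroup.to_sup_of_normal_left' (isPGroup_zpowers (n := 1) (by rw [pow_one, pow_two, hz2]))
        (isPGroup_zpowers hn) (zpowers_le.2 ?_)
      refine mem_normalizer_of_cmap_eq ?_
      rw [cmap, MonoidHom.map_zpowers]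
      congr 1
      show y * z * y⁻¹ = z
      rw [hyz, mul_inv_cancel_right]
    have hz3 : z ∈ C3 := by
      refine ⟨⟨⟨mem_cz.2 rfl, Subgroup.le_normalizer uJ.mem⟩, hzJ'⟩, hnV _ ?_ ?_⟩
      · rw [mul_inv_cancel_right]; exact hzV
      · rw [← hkz, mul_inv_cancel_right]; exact hkV
    have hW3 : W ≤ normalizer (C3 : Set G) := by
      refine sup_le le_normalizer (zpowers_le.2 (mem_normalizer_of_cmap_eq ?_))
      refine Subgroup.eq_of_le_of_card_ge ?_ (card_map_of_injective (MulAut.conj y).injective).ge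
      rintro _ ⟨c, hc, rfl⟩
      exact hyN c hc
    obtain ⟨T, hTW, hUT, hT, hTi⟩ := exists_sylow_in hU2
      (sup_le ((zpowers_le.2 hz3).trans le_sup_left) le_sup_right : U ≤ W)
    have hTidx : ¬ 2 ∣ (T ⊓ C3).relIndex C3 :=
      hTi C3 le_sup_left (normal_subgroupOf_of_le_normalizer hW3).isSubnormal
    obtain ⟨c, hc3, hcT⟩ : ∃ c ∈ C3, c * x₁ * c⁻¹ ∈ T := by
      let P0 : Sylow 2 ↥C3 :=
        ((hT.to_le (inf_le_left : T ⊓ C3 ≤ T)).of_equiv (subgroupOfEquivOfLe inf_le_right).symm).toSylow hTidx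
      have hxp : IsPGroup 2 ↥(zpowers (⟨x₁, hx₁3⟩ : ↥C3)) := isPGroup_zpowers (n := 2) (Subtype.ext (by
        show x₁ ^ (2 ^ 2) = 1
        rw [show (2 : ℕ) ^ 2 = 2 * 2 from rfl, pow_mul, pow_two, pow_two, hx₁2, hz2]))
      obtain ⟨Q, hQ⟩ := hxp.exists_le_sylow
      obtain ⟨c, hc⟩ := MulAction.exists_smul_eq ↥C3 Q P0
      refine ⟨c, c.2, ?_⟩
      have h1 : c * ⟨x₁, hx₁3⟩ * c⁻¹ ∈ (c • Q : Sylow 2 ↥C3) := by
        show _ ∈ ((c • Q : Sylow 2 ↥C3) : Subgroup ↥C3)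
        rw [Sylow.coe_subgroup_smul]
        exact ⟨_, hQ (mem_zpowers _), rfl⟩
      rw [hc] at h1
      exact (mem_subgroupOf.1 h1).1
    have hyT : y ∈ T := hUT (mem_sup_right (mem_zpowers y))
    have hzT : z ∈ T := hUT (mem_sup_left (mem_zpowers z))
    have hkT : k ∈ T := by rw [← hi0]; exact mul_mem (pow_mem hyT _) (pow_mem hyT _)
    -- the conjugate pair
    set x := c * x₁ * c⁻¹ with hx
    obtain ⟨⟨⟨hcC, hcJ⟩, -⟩, hcV⟩ := hc3
    have hxJ : x ∈ J := (mem_normalizer_iff.1 hcJ x₁).1 hx₁J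
    have hcz' : c * z = z * c := mem_cz.1 hcC
    have hx2 : x * x = z := by
      rw [hx, show c * x₁ * c⁻¹ * (c * x₁ * c⁻¹) = c * (x₁ * x₁) * c⁻¹ by group, hx₁2, hcz',
        mul_inv_cancel_right]
    have hxz : x * z = z * x := mem_cz.1 (hJ.le hxJ)
    have hk' : c * k * c⁻¹ = k ∨ c * k * c⁻¹ = k * z := by
      obtain ⟨w, hw, hwv⟩ := hVc _ ((mem_normalizer_iff.1 hcV k).1 hkV)
      rcases hw with rfl | rfl
      · exfalso
        rcases hwv with h | h
        · exact hk1 (conj_eq_one_iff.1 h)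
        · rw [one_mul] at h
          apply hzk
          calc z = c⁻¹ * (c * z) := by group
            _ = c⁻¹ * (z * c) := by rw [hcz']
            _ = c⁻¹ * (c * k * c⁻¹ * c) := by rw [h]
            _ = k := by group
      · exact hwv
    set g₂ := c * g₁ * c⁻¹ with hg₂
    have hg₂J : g₂ ∈ J := (mem_normalizer_iff.1 hcJ g₁).1 hg₁J
    have hg₂z : g₂ * z = z * g₂ := mem_cz.1 (hJ.le hg₂J)
    have e0 : (c * k * c⁻¹) * x * (c * k * c⁻¹)⁻¹ = x⁻¹ ∧ g₂ * (c * k * c⁻¹) * g₂⁻¹ = (c * k * c⁻¹) * x := by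
      constructor
      · rw [hx, show c * k * c⁻¹ * (c * x₁ * c⁻¹) * (c * k * c⁻¹)⁻¹ = c * (k * x₁ * k⁻¹) * c⁻¹ by group, hx₁k]
        group
      · rw [hx, hg₂, show c * g₁ * c⁻¹ * (c * k * c⁻¹) * (c * g₁ * c⁻¹)⁻¹ = c * (g₁ * k * g₁⁻¹) * c⁻¹ by group,
          hg₁k]
        group
    have hxk : k * x * k⁻¹ = x⁻¹ ∧ g₂ * k * g₂⁻¹ = k * x := by
      rcases hk' with h | h
      · rwa [h] at e0
      · rw [h] at e0
        refine ⟨?_, ?_⟩
        · rw [← e0.1]
          calc k * x * k⁻¹ = k * (x * z) * z⁻¹ * k⁻¹ := by group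
            _ = k * z * x * (k * z)⁻¹ := by rw [hxz]; group
        · refine mul_right_cancel (b := z) ?_
          calc g₂ * k * g₂⁻¹ * z = g₂ * k * g₂⁻¹ * (z * g₂) * g₂⁻¹ := by group
            _ = g₂ * k * g₂⁻¹ * (g₂ * z) * g₂⁻¹ := by rw [hg₂z]
            _ = g₂ * (k * z) * g₂⁻¹ := by group
            _ = k * z * x := e0.2
            _ = k * x * z := by rw [mul_assoc, ← hxz, ← mul_assoc]
    obtain ⟨hxk, hg₂k⟩ := hxk
    have hxinv : x⁻¹ = x * z := inv_eq_of_mul_eq_one_right (by rw [← mul_assoc, hx2, hz2])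
    set x' := y * x * y⁻¹ with hx'
    have hx'T : x' ∈ T := mul_mem (mul_mem hyT hcT) (inv_mem hyT)
    set η := y * x' * y⁻¹ with hη
    have hηT : η ∈ T := mul_mem (mul_mem hyT hx'T) (inv_mem hyT)
    have hηJ : η ∈ J := by
      rw [← cmap_eq_of_mem_normalizer hyy, ← cmap_cmap]
      exact conj_mem_cmap (conj_mem_cmap hxJ)
    have hJJ' := hJ.commutator_le (hJ.conj_of_mem hyC) hne
    have cxx : x * x' = x' * x :=
      commute_of_mem_cr hT hcT hx'T (hJJ' (commutator_mem_commutator hxJ (conj_mem_cmap hxJ)))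
    have cηx : η * x' = x' * η :=
      commute_of_mem_cr hT hηT hx'T (hJJ' (commutator_mem_commutator hηJ (conj_mem_cmap hxJ)))
    have hk'k : y * k * y⁻¹ = k := by rw [hyk', mul_inv_cancel_right]
    have hx'k : k * x' * k⁻¹ = x'⁻¹ := by
      rw [hx']
      calc k * (y * x * y⁻¹) * k⁻¹ = (k * y) * x * (k * y)⁻¹ := by group
        _ = (y * k) * x * (y * k)⁻¹ := by rw [hyk']
        _ = y * (k * x * k⁻¹) * y⁻¹ := by group
        _ = (y * x * y⁻¹)⁻¹ := by rw [hxk]; group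
    have hx'2 : x' * x' = z := by
      rw [hx', show y * x * y⁻¹ * (y * x * y⁻¹) = y * (x * x) * y⁻¹ by group, hx2, hyz, mul_inv_cancel_right]
    set g₃ := y * g₂ * y⁻¹ with hg₃
    have hg₃J' : g₃ ∈ J' := conj_mem_cmap hg₂J
    have hg₃k : g₃ * k * g₃⁻¹ = k * x' := by
      conv_lhs => rw [← hk'k]
      rw [hg₃, hx', show y * g₂ * y⁻¹ * (y * k * y⁻¹) * (y * g₂ * y⁻¹)⁻¹ = y * (g₂ * k * g₂⁻¹) * y⁻¹ by group,
        hg₂k]
      calc y * (k * x) * y⁻¹ = (y * k * y⁻¹) * (y * x * y⁻¹) := by group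
        _ = k * (y * x * y⁻¹) := by rw [hk'k]
    set u := k * (x * x') with hu
    have hkxx : k * (x * x') * k = x⁻¹ * x'⁻¹ := by
      calc k * (x * x') * k = (k * x * k⁻¹) * (k * x' * k⁻¹) * (k * k) := by group
        _ = x⁻¹ * x'⁻¹ := by rw [hxk, hx'k, hk2, mul_one]
    have hu2 : u * u = 1 := by
      calc u * u = (k * (x * x') * k) * (x * x') := by rw [hu]; group
        _ = x⁻¹ * x'⁻¹ * (x' * x) := by rw [hkxx, cxx]
        _ = 1 := by group
    have huinv : u⁻¹ = u := inv_eq_of_mul_eq_one_right hu2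
    have hxx1 : (x * x') * (x * x') = 1 := by
      calc (x * x') * (x * x') = x * (x' * x) * x' := by group
        _ = (x * x) * (x' * x') := by rw [← cxx]; group
        _ = 1 := by rw [hx2, hx'2, hz2]
    have huk : u * k = k * u := by
      have h1 : x⁻¹ * x'⁻¹ = x * x' := by
        rw [← mul_inv_rev, ← cxx]; exact inv_eq_of_mul_eq_one_right hxx1
      rw [hu, hkxx, h1, ← mul_assoc k k, hk2, one_mul]
    have huC : u ∈ cz z := mul_mem hkC (mul_mem (hJ.le hxJ) (mul_mem (mul_mem hyC (hJ.le hxJ)) (inv_mem hyC)))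
    -- `u` is a conjugate of `k`
    set o := x'⁻¹ * g₂ * x' * g₂⁻¹ with ho
    have hocr : o ∈ cr (cz z) := by
      have := (hJ.conj_of_mem hyC).commutator_le hJ hne.symm
        (commutator_mem_commutator (inv_mem (conj_mem_cmap (g := y) hxJ)) hg₂J)
      rw [ho]
      simpa [commutatorElement_def, hx'] using this
    have hu0 : g₂ * g₃ * k * (g₂ * g₃)⁻¹ = u * o := by
      calc g₂ * g₃ * k * (g₂ * g₃)⁻¹ = g₂ * (g₃ * k * g₃⁻¹) * g₂⁻¹ := by group
        _ = g₂ * (k * x') * g₂⁻¹ := by rw [hg₃k]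
        _ = (g₂ * k * g₂⁻¹) * (g₂ * x' * g₂⁻¹) := by group
        _ = k * x * (g₂ * x' * g₂⁻¹) := by rw [hg₂k]
        _ = u * o := by rw [hu, ho]; group
    have huo2 : u * o * (u * o) = 1 := by
      rw [← hu0, show g₂ * g₃ * k * (g₂ * g₃)⁻¹ * (g₂ * g₃ * k * (g₂ * g₃)⁻¹) =
        g₂ * g₃ * (k * k) * (g₂ * g₃)⁻¹ by group, hk2]
      group
    have huo : u * o * u⁻¹ = o⁻¹ := by
      rw [huinv]
      exact eq_inv_of_mul_eq_one_left (by rw [mul_assoc (u * o)]; exact huo2)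
    obtain ⟨r, hr⟩ := odd_orderOf_cr hocr
    have hor : u = (o ^ r)⁻¹ * (u * o) * o ^ r := by
      have h3 : (o ^ r)⁻¹ * u = u * o ^ r := by
        have h1 : u * o ^ r * u⁻¹ = (o ^ r)⁻¹ := by rw [← conj_pow, huo, inv_pow]
        rw [← h1]; group
      have h4 : o ^ (r + 1 + r) = 1 := by
        rw [show r + 1 + r = 2 * r + 1 by omega, ← hr]; exact pow_orderOf_eq_one o
      calc u = u * o ^ (r + 1 + r) := by rw [h4, mul_one]
        _ = u * o ^ r * o * o ^ r := by rw [pow_add, pow_succ]; group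
        _ = (o ^ r)⁻¹ * u * o * o ^ r := by rw [h3]
        _ = (o ^ r)⁻¹ * (u * o) * o ^ r := by group
    set γ := (o ^ r)⁻¹ * (g₂ * g₃) with hγ
    have hγk : γ * k * γ⁻¹ = u := by
      rw [hor, ← hu0, hγ]; group
    have hγC : γ ∈ cz z :=
      mul_mem (inv_mem (pow_mem (Balance.core'_le _ hocr) r))
        (mul_mem (hJ.le hg₂J) (mul_mem (mul_mem hyC (hJ.le hg₂J)) (inv_mem hyC)))
    -- `u` moves `K`
    set m := x⁻¹ * η with hm
    have hm' : u * y * u⁻¹ * y⁻¹ = m := by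
      rw [huinv]
      calc u * y * u * y⁻¹ = u * (y * u * y⁻¹) := by group
        _ = u * ((y * k * y⁻¹) * ((y * x * y⁻¹) * (y * x' * y⁻¹))) := by rw [hu]; group
        _ = u * (k * (x' * η)) := by rw [hk'k]
        _ = (k * (x * x') * k) * (x' * η) := by rw [hu]; group
        _ = m := by rw [hkxx, hm]; group
    have hmT : m ∈ T := mul_mem (inv_mem hcT) hηT
    have hmJ : m ∈ J := mul_mem (inv_mem hxJ) hηJ
    have hm1 : m ≠ 1 := by
      intro h
      have hηx : η = x := (inv_mul_eq_one.1 h).symm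
      have hc : Commute (y * y) x := by
        show y * y * x = x * (y * y)
        have : η = y * y * x * (y * y)⁻¹ := by rw [hη, hx']; group
        rw [hηx] at this
        conv_rhs => rw [this]
        group
      have hck : Commute k x := by
        rw [← hi0, ← (Commute.refl y).mul_pow]; exact hc.pow_left i0
      rw [hck.eq, mul_inv_cancel_right, hxinv, left_eq_mul] at hxk
      exact hz1 hxk
    obtain ⟨nm, hnm⟩ : ∃ nm : ℕ, m ^ nm = z := by
      rcases eq_or_ne m z with h | h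
      · exact ⟨1, by rw [pow_one, h]⟩
      · obtain ⟨t, ht⟩ := exists_pow_two_eq_one hT hmT
        obtain ⟨i, hi⟩ := exists_pow_sq_eq uJ hmJ ht hm1 h
        exact ⟨i + i, by rw [pow_add, hi]⟩
    have huK : u ∉ normalizer (K : Set G) := by
      intro h
      have hmK : m ∈ K := hm' ▸ mul_mem ((mem_normalizer_iff.1 h y).1 hy) (inv_mem hy)
      exact hzk (uK.only z (hnm ▸ pow_mem hmK nm) uJ.ord)
    have swA : Swap K (cz k) u := ⟨hK, mem_cz.2 huk, hu2, huK⟩
    set R := cmap γ K with hR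
    have hRC : PC R (cz u) := hγk ▸ hK.conj_cz γ
    have uR : Uniq R u := hγk ▸ uK.cmap γ
    have tR : Typ S R := tK.cmap γ
    have hkR : k ∉ normalizer (R : Set G) := fun h => huK (normalizes hFT hS hK uK hRC uR tK tR h)
    have swB : Swap R (cz u) k := ⟨hRC, mem_cz.2 huk.symm, hk2, hkR⟩
    obtain ⟨PA, dA⟩ := swA.exists_diag hFT hS tK
    obtain ⟨PB, dB⟩ := swB.exists_diag hFT hS tR
    have hPA : PA ≤ normalizer (R : Set G) := by
      refine dB.fix_perfect PA ?_ dA.pc.perfect (dB.pc.le_normalizer ?_)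
      · rw [inf_comm]; exact dA.pc.le
      · rw [inf_comm]; exact dA.pc
    -- `z k` lies in the diagonal
    set y' := u * y * u⁻¹ with hy'
    have huT : u ∈ T := mul_mem hkT (mul_mem hcT hx'T)
    have hy'T : y' ∈ T := mul_mem (mul_mem huT hyT) (inv_mem huT)
    have cyy : y * y' = y' * y := commute_of_mem_cr hT hyT hy'T
      (hK.commutator_le swA.pc' swA.ne (commutator_mem_commutator hy (conj_mem_cmap hy)))
    set Y := y ^ nm with hY
    have hYY' : u * Y * u⁻¹ = y' ^ nm := by rw [hY, hy', conj_pow]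
    have cYY : Y * (u * Y * u⁻¹) = u * Y * u⁻¹ * Y := by
      rw [hYY']; exact (show Commute y y' from cyy).pow_pow nm nm
    have hzY : z = (u * Y * u⁻¹) * Y⁻¹ := by
      rw [hYY', hY, ← inv_pow, ← (show Commute y' y from cyy.symm).inv_right.mul_pow, hy', hm', hnm]
    have hYK : Y ∈ K := pow_mem hy nm
    have hsq : (u * Y * u⁻¹) * (u * Y * u⁻¹) = Y * Y := by
      have h1 := hz2
      rw [hzY] at h1
      set A := u * Y * u⁻¹
      have hc : Commute A Y⁻¹ := (show Commute A Y from cYY.symm).inv_right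
      rw [show A * Y⁻¹ * (A * Y⁻¹) = A * A * (Y⁻¹ * Y⁻¹) by
        rw [mul_assoc A, ← mul_assoc Y⁻¹ A, ← hc.eq]; simp only [mul_assoc], ← mul_inv_rev,
        mul_inv_eq_one] at h1
      exact h1
    have hwk : Y * Y = 1 ∨ Y * Y = k := by
      obtain ⟨t, ht⟩ := exists_pow_two_eq_one hT (mul_mem (pow_mem hyT nm) (pow_mem hyT nm))
      refine hK.eq_one_or_of_central uK (mul_mem hYK hYK) ht ?_
      exact hK.inter_central swA.memH huK (hsq ▸ mul_mem (conj_mem_cmap hYK) (conj_mem_cmap hYK))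
    rcases hwk with hw | hw
    · apply hz1
      rcases uK.eq_or hYK hw with h | h
      · rw [hzY, h]; group
      · rw [hzY, h, huk]; group
    · have hYinv : Y⁻¹ = Y * k := inv_eq_of_mul_eq_one_right (by rw [← mul_assoc, hw, hk2])
      have hprod : Y * (u * Y * u⁻¹) = z * k := by
        rw [hzY, hYinv, cYY, ← mul_assoc (u * Y * u⁻¹) Y k, mul_assoc (u * Y * u⁻¹ * Y) k k, hk2, mul_one]
      have hmem : z * k ∈ PA := hprod ▸ dA.mem Y hYK cYY 1 (by
        rw [hprod, pow_one, pow_two, show z * k * (z * k) = z * (k * z) * k by group, hkz,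
          ← mul_assoc, hz2, one_mul, hk2])
      have hzR : z ∈ normalizer (R : Set G) := by
        refine mem_normalizer_of_cmap_eq ?_
        rw [hR, cmap_cmap, ← mem_cz.1 hγC, ← cmap_cmap, cmap_eq_of_mem_normalizer hzK]
      apply hkR
      have := mul_mem (inv_mem hzR) (hPA hmem)
      rwa [inv_mul_cancel_left] at this

/-- Part (i). -/
theorem mem_normalizer_of_commute (hFT : FTConsumers.OddOrder.{u}) (hS : ¬ IsMulCommutative S)
    {J K : Subgroup G} {z k : G} (hJ : PC J (cz z)) (uJ : Uniq J z) (hK : PC K (cz k)) (uK : Uniq K k)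
    (tJ : Typ S J) (tK : Typ S K) {y : G} (hy : y ∈ K) {n : ℕ} (hn : y ^ 2 ^ n = 1) (hy1 : y ≠ 1)
    (hyk : y ≠ k) (hyz : y * z = z * y) : y ∈ normalizer (J : Set G) := by
  rcases eq_or_ne z k with rfl | hzk
  · exact hJ.le_normalizer hK hy
  have hzC : z ∈ cz k := by
    obtain ⟨i, hi⟩ := exists_pow_sq_eq uK hy hn hy1 hyk
    rw [mem_cz, ← hi, ← pow_add]
    exact (Commute.pow_left hyz _).eq.symm
  have hzK : z ∈ normalizer (K : Set G) := by
    by_contra h
    have hy' : y ∈ cmap z K := by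
      have := conj_mem_cmap (g := z) hy
      rwa [← hyz, mul_inv_cancel_right] at this
    exact (hK.eq_one_or_of_central uK hy hn (hK.inter_central hzC h hy')).elim hy1 hyk
  clear hzC
  induction n generalizing y with
  | zero => exact absurd (by simpa using hn) hy1
  | succ n ih =>
    refine mem_normalizer_of_square hFT hS hJ uJ hK uK tJ tK hzk hzK hy hn hy1 hyk hyz ?_
    by_cases h1 : y * y = 1
    · rw [h1]; exact one_mem _
    by_cases h2 : y * y = k
    · rw [h2]; exact normalizes hFT hS hJ uJ hK uK tJ tK hzK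
    exact ih (mul_mem hy hy) (by rw [← pow_two, ← pow_mul, ← pow_succ', hn]) h1 h2
      (by rw [mul_assoc, hyz, ← mul_assoc, hyz, mul_assoc])

end Cfsg.Agent.SL2Comp
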