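import Cfsg.Agent.Lib.SL2Comp.Basic
import Cfsg.Agent.Lib.SylowCentralAut.Simple
import Cfsg.Agent.Lib.Frobenius.SolvableAut
import Cfsg.Agent.Lib.PGroup.UniqueOrderP
import Cfsg.Agent.Lib.PGroup.Frattini

/-!
# Subgroups of rank one, and perfect groups centralising an automorphism

`key`: if `B` is quasisimple over `S`, `Γ` is perfect over `S` and `Out S` is solvable, then a homomorphism
`Γ → Aut B` commuting with a nontrivial automorphism is trivial.
-/

set_option autoImplicit false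
set_option linter.unusedSectionVars false
set_option linter.style.haveILetI false

namespace Cfsg.Agent.SL2Comp

open Subgroup Cfsg
open scoped commutatorElement

universe u

local instance : Fact (Nat.Prime 2) := ⟨Nat.prime_two⟩

section Abstract

variable {Γ B S : Type u} [Group Γ] [Group B] [Group S] [Finite Γ] [Finite B] [Finite S]

theorem eq_one_of_solvable_range {Γ : Type*} {B : Type*} [Group Γ] [Group B] [Finite Γ] [Group.IsPerfect Γ] (f : Γ →* B) (h : Group.IsSolvable f.range) :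
    f = 1 := by
  haveI : Group.IsPerfect f.range := Group.IsPerfect.ofSurjective f.rangeRestrict_surjective
  have hs : Subsingleton f.range := by
    by_contra hn
    haveI := not_subsingleton_iff_nontrivial.1 hn
    exact (Group.IsSolvable.commutator_lt_top_of_nontrivial f.range).ne Group.IsPerfect.commutator_eq_top
  ext x
  exact congrArg Subtype.val (Subsingleton.elim (⟨f x, x, rfl⟩ : f.range) 1)

variable [IsSimpleGroup S] (hS : ¬ IsMulCommutative S)

include hS in
theorem le_ker_of_solvable_normal {π : Γ →* S} (hπ : Function.Surjective π) {N : Subgroup Γ}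
    (hN : N.Normal) (hs : Group.IsSolvable N) : N ≤ π.ker := by
  rcases (hN.map π hπ).eq_bot_or_eq_top with h | h
  · exact (Subgroup.map_eq_bot_iff _).1 h
  · exfalso
    haveI := hs
    haveI : Group.IsSolvable (N.map π) := Group.isSolvable_of_surjective (π.subgroupMap_surjective N)
    haveI : Group.IsSolvable S := Group.isSolvable_of_surjective (f := (N.map π).subtype)
      (fun s => ⟨⟨s, h ▸ mem_top s⟩, rfl⟩)
    exact hS ⟨⟨IsSimpleGroup.comm_iff_isSolvable.2 inferInstance⟩⟩

include hS in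
theorem ker_eq_center (hq : IsQuasisimple B) {π : B →* S} (hπ : Function.Surjective π) :
    π.ker = center B := by
  refine le_antisymm ((Components.IsQuasisimple.normal_eq_top_or_le_center hq π.ker).resolve_left
    fun h => hS ⟨⟨fun x y => ?_⟩⟩) ?_
  · obtain ⟨a, rfl⟩ := hπ x
    obtain ⟨b, rfl⟩ := hπ y
    rw [show π a = 1 from MonoidHom.mem_ker.1 (h ▸ mem_top a), one_mul, mul_one]
  · exact le_ker_of_solvable_normal hS hπ inferInstance (Group.isSolvable_of_comm fun a b =>
      Subtype.ext (mem_center_iff.1 b.2 a))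

theorem le_ker_of_ne_top [Group.IsPerfect Γ] {π : Γ →* S} (hπ : Function.Surjective π)
    (hk : Group.IsSolvable π.ker) {N : Subgroup Γ} [N.Normal] (hN : N ≠ ⊤) : N ≤ π.ker := by
  rcases ((inferInstance : N.Normal).map π hπ).eq_bot_or_eq_top with h | h
  · exact (Subgroup.map_eq_bot_iff _).1 h
  · exfalso
    apply hN
    haveI := hk
    have hs : Group.IsSolvable (QuotientGroup.mk' N).range := by
      refine Group.isSolvable_of_surjective
        (f := ((QuotientGroup.mk' N).comp π.ker.subtype).codRestrict _ fun x => ⟨x.1, rfl⟩) ?_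
      rintro ⟨_, g, rfl⟩
      obtain ⟨n, hn, he⟩ : π g ∈ N.map π := h ▸ mem_top _
      refine ⟨⟨n⁻¹ * g, by rw [MonoidHom.mem_ker, map_mul, map_inv, he, inv_mul_cancel]⟩,
        Subtype.ext ?_⟩
      show QuotientGroup.mk' N (n⁻¹ * g) = QuotientGroup.mk' N g
      rw [map_mul, map_inv, show QuotientGroup.mk' N n = 1 from (QuotientGroup.eq_one_iff n).2 hn,
        inv_one, one_mul]
    have := eq_one_of_solvable_range _ hs
    rw [eq_top_iff]
    exact fun g _ => (QuotientGroup.eq_one_iff g).1 (DFunLike.congr_fun this g)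

/-- The automorphism of `S` induced by one of `B`. -/
noncomputable def descend (π : B →* S) (hπ : Function.Surjective π) (hker : π.ker = center B) :
    MulAut B →* MulAut S :=
  let e : B ⧸ center B ≃* S := (QuotientGroup.quotientMulEquivOfEq hker.symm).trans
    (QuotientGroup.quotientKerEquivOfSurjective π hπ)
  { toFun := fun α => (e.symm.trans (QuotientGroup.congr (center B) (center B) α
      (characteristic_iff_map_eq.1 inferInstance α))).trans e
    map_one' := by
      ext s; obtain ⟨x, rfl⟩ := e.surjective s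
      induction x using QuotientGroup.induction_on
      simp
      rfl
    map_mul' := fun α β => by
      ext s; obtain ⟨x, rfl⟩ := e.surjective s
      induction x using QuotientGroup.induction_on
      simp
      rfl }

theorem descend_apply {π : B →* S} (hπ : Function.Surjective π) (hker : π.ker = center B)
    (α : MulAut B) (b : B) : descend π hπ hker α (π b) = π (α b) := by
  have h : ∀ x : B, ((QuotientGroup.quotientMulEquivOfEq hker.symm).trans
      (QuotientGroup.quotientKerEquivOfSurjective π hπ)) (QuotientGroup.mk x) = π x := fun _ => rfl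
  rw [← h b, ← h (α b)]
  simp [descend]
  rfl

include hS in
/-- The key lemma. -/
theorem key (hout : Group.IsSolvable (Cfsg.Out S)) (hq : IsQuasisimple B) {πB : B →* S}
    (hB : Function.Surjective πB) [Group.IsPerfect Γ] {πΓ : Γ →* S} (hΓ : Function.Surjective πΓ)
    (hk : Group.IsSolvable πΓ.ker) (ρ : Γ →* MulAut B) {β : MulAut B} (hβ : β ≠ 1)
    (hc : ∀ g, Commute (ρ g) β) : ρ = 1 := by
  set hker := ker_eq_center hS hq hB
  set A := descend πB hB hker with hA
  have hAinj : ∀ α, A α = 1 → α = 1 := by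
    intro α hα
    have hz : ∀ b, α b * b⁻¹ ∈ center B := fun b => by
      rw [← hker, MonoidHom.mem_ker, map_mul, map_inv, ← descend_apply hB hker, ← hA, hα]
      simp
    let c : B →* center B :=
      { toFun := fun b => ⟨α b * b⁻¹, hz b⟩
        map_one' := Subtype.ext (by simp)
        map_mul' := fun a b => Subtype.ext (by
          show α (a * b) * (a * b)⁻¹ = α a * a⁻¹ * (α b * b⁻¹)
          have h1 := mem_center_iff.1 (hz b) a⁻¹
          calc α (a * b) * (a * b)⁻¹ = α a * ((α b * b⁻¹) * a⁻¹) := by rw [map_mul]; group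
            _ = α a * (a⁻¹ * (α b * b⁻¹)) := by rw [h1]
            _ = α a * a⁻¹ * (α b * b⁻¹) := by group) }
    haveI := hq.1
    have hc1 := eq_one_of_solvable_range c (Group.isSolvable_of_comm fun a b =>
      Subtype.ext (Subtype.ext (mem_center_iff.1 b.1.2 a.1.1)))
    ext b
    have := congrArg Subtype.val (DFunLike.congr_fun hc1 b)
    exact mul_inv_eq_one.1 this
  set f := A.comp ρ with hf
  haveI := hout
  have hInn : ∀ g, f g ∈ Inn S := fun g => by
    have := eq_one_of_solvable_range ((QuotientGroup.mk' (Inn S)).comp f) inferInstance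
    exact (QuotientGroup.eq_one_iff _).1 (DFunLike.congr_fun this g)
  let e := MonoidHom.ofInjective (SylowCentralAut.conj_injective hS)
  let σ : Γ →* S := e.symm.toMonoidHom.comp (f.codRestrict _ hInn)
  have hσ : ∀ g, MulAut.conj (σ g) = f g := fun g =>
    congrArg Subtype.val (e.apply_symm_apply (f.codRestrict _ hInn g))
  have htriv : σ.ker = ⊤ := by
    by_contra hN
    have hle := le_ker_of_ne_top hΓ hk hN
    have hcard : Nat.card S ≤ Nat.card σ.range := by
      rw [← Subgroup.index_ker, ← Nat.card_congr (Equiv.ofBijective _ ⟨_root_.Subtype.val_injective,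
        fun s => ⟨⟨s, hΓ s⟩, rfl⟩⟩ : ↥πΓ.range ≃ S), ← Subgroup.index_ker]
      exact Nat.le_of_dvd (Nat.pos_of_ne_zero Subgroup.index_ne_zero_of_finite)
        (Subgroup.index_dvd_of_le hle)
    have htop : σ.range = ⊤ := eq_top_of_card_eq _ (le_antisymm (card_le_card_group _) hcard)
    apply hβ
    apply hAinj
    have hmem : A β ∈ centralizer (Inn S : Set (MulAut S)) := by
      rw [mem_centralizer_iff]
      rintro _ ⟨s, rfl⟩
      obtain ⟨g, rfl⟩ : s ∈ σ.range := htop ▸ mem_top s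
      rw [hσ]
      exact ((hc g).map A).eq
    rw [SylowCentralAut.centralizer_inn hS] at hmem
    exact mem_bot.1 hmem
  ext1 g
  refine hAinj _ ?_
  have : σ g = 1 := MonoidHom.mem_ker.1 (htriv ▸ mem_top g)
  have h2 := hσ g
  rw [this, map_one] at h2
  exact h2.symm

end Abstract

variable {G : Type u} [Group G] [Finite G] {S : Type u} [Group S] [Finite S] [IsSimpleGroup S]
  (hFT : FTConsumers.OddOrder.{u}) (hS : ¬ IsMulCommutative S)

theorem mem_normalizer_img {J H : Subgroup G} {g : G} (hg : g ∈ H) (h : g ∈ normalizer (J : Set G)) :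
    qm H ⟨g, hg⟩ ∈ normalizer ((img J H : Subgroup _) : Set (↥H ⧸ pPrimeCore 2 ↥H)) :=
  Subgroup.le_normalizer_map (qm H) (mem_map_of_mem _ (PC.subgroupOf_mem_normalizer hg h))

include hFT hS in
theorem exists_img_surjective {B H : Subgroup G} (hB : PC B H) (tB : Typ S B) :
    ∃ π : ↥(img B H) →* S, Function.Surjective π := by
  obtain ⟨π, hs, -⟩ := tB
  let f : ↥B →* ↥(img B H) :=
    ((qm H).subgroupMap (B.subgroupOf H)).comp (subgroupOfEquivOfLe hB.le).symm.toMonoidHom
  have hf : Function.Surjective f :=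
    ((qm H).subgroupMap_surjective _).comp (subgroupOfEquivOfLe hB.le).symm.surjective
  have hk : f.ker ≤ π.ker := by
    refine le_ker_of_solvable_normal hS hs inferInstance (hFT _ ?_)
    have hin : ∀ x : f.ker, (x : G) ∈ cr H := fun x =>
      (mem_cr_iff (hB.le x.1.2)).2 (congrArg Subtype.val x.2)
    refine (Nat.coprime_two_right.1 (Balance.card_core'_coprime (p := 2) H)).of_dvd_nat ?_
    let j : ↥f.ker →* ↥(cr H) := (B.subtype.comp f.ker.subtype).codRestrict _ hin
    exact card_dvd_of_injective j fun a b hab =>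
      Subtype.ext (Subtype.ext (congrArg (fun y : ↥(cr H) => (y : G)) hab))
  refine ⟨f.liftOfSurjective hf ⟨π, hk⟩, fun s => ?_⟩
  obtain ⟨x, rfl⟩ := hs s
  exact ⟨f x, MonoidHom.liftOfRightInverse_comp_apply _ _ _ _ _⟩

include hFT hS in
/-- The key lemma inside a group. -/
theorem keyG (hout : Group.IsSolvable (Cfsg.Out S)) {H B Γ : Subgroup G} (hB : PC B H) (tB : Typ S B)
    (hΓH : Γ ≤ H) (hperf : ⁅Γ, Γ⁆ = Γ) (tΓ : Typ S Γ) (hΓN : Γ ≤ normalizer (B : Set G))
    {β : G} (hβH : β ∈ H) (hβN : β ∈ normalizer (B : Set G)) (hβ : ∀ g ∈ Γ, ⁅g, β⁆ ∈ cr H)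
    (hne : ∃ b ∈ B, ⁅β, b⁆ ∉ cr H) : ⁅Γ, B⁆ ≤ cr H := by
  obtain ⟨πB, hπB⟩ := exists_img_surjective hFT hS hB tB
  obtain ⟨πΓ, hπΓ, hk⟩ := tΓ
  haveI : Group.IsPerfect ↥Γ := isPerfect_iff.mpr hperf
  let ι : ↥Γ →* ↥(normalizer ((img B H : Subgroup _) : Set (↥H ⧸ pPrimeCore 2 ↥H))) :=
    ((qm H).comp (Subgroup.inclusion hΓH)).codRestrict _ fun g => mem_normalizer_img (hΓH g.2) (hΓN g.2)
  let τ := Subgroup.normalizerMonoidHom (img B H)
  let b0 : MulAut ↥(img B H) := τ ⟨qm H ⟨β, hβH⟩, mem_normalizer_img hβH hβN⟩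
  have hb0 : b0 ≠ 1 := by
    intro h
    obtain ⟨b, hb, hn⟩ := hne
    apply hn
    have hmem : qm H ⟨b, hB.le hb⟩ ∈ img B H := mem_map_of_mem _ (mem_subgroupOf.2 hb)
    have h1 : qm H ⟨β, hβH⟩ * qm H ⟨b, hB.le hb⟩ * (qm H ⟨β, hβH⟩)⁻¹ = qm H ⟨b, hB.le hb⟩ :=
      congrArg Subtype.val (MulEquiv.congr_fun h ⟨_, hmem⟩)
    have hc : ⁅β, b⁆ ∈ H := by
      rw [commutatorElement_def]
      exact mul_mem (mul_mem (mul_mem hβH (hB.le hb)) (inv_mem hβH)) (inv_mem (hB.le hb))
    rw [mem_cr_iff hc]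
    have : (⟨⁅β, b⁆, hc⟩ : ↥H) = ⁅(⟨β, hβH⟩ : ↥H), ⟨b, hB.le hb⟩⁆ := Subtype.ext rfl
    rw [this, map_commutatorElement, commutatorElement_def, h1, mul_inv_cancel]
  have hcomm : ∀ g, Commute ((τ.comp ι) g) b0 := by
    intro g
    refine Commute.map ?_ τ
    refine Subtype.ext ?_
    show qm H ⟨g, hΓH g.2⟩ * qm H ⟨β, hβH⟩ = qm H ⟨β, hβH⟩ * qm H ⟨g, hΓH g.2⟩
    refine commutatorElement_eq_one_iff_mul_comm.1 ?_
    rw [← map_commutatorElement]
    exact (mem_cr_iff (x := ⁅(g : G), β⁆) (⁅(⟨g, hΓH g.2⟩ : ↥H), (⟨β, hβH⟩ : ↥H)⁆).2).1 (hβ g g.2)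
  have hρ := key hS hout hB.img_comp.2 hπB hπΓ hk (τ.comp ι) hb0 hcomm
  rw [commutator_le]
  intro g hg b hb
  have hmem : qm H ⟨b, hB.le hb⟩ ∈ img B H := mem_map_of_mem _ (mem_subgroupOf.2 hb)
  have h1 : qm H ⟨g, hΓH hg⟩ * qm H ⟨b, hB.le hb⟩ * (qm H ⟨g, hΓH hg⟩)⁻¹ = qm H ⟨b, hB.le hb⟩ :=
    congrArg Subtype.val (MulEquiv.congr_fun (DFunLike.congr_fun hρ (⟨g, hg⟩ : ↥Γ)) ⟨_, hmem⟩)
  have hc : ⁅g, b⁆ ∈ H := (⁅(⟨g, hΓH hg⟩ : ↥H), (⟨b, hB.le hb⟩ : ↥H)⁆).2
  rw [mem_cr_iff hc]
  have : (⟨⁅g, b⁆, hc⟩ : ↥H) = ⁅(⟨g, hΓH hg⟩ : ↥H), ⟨b, hB.le hb⟩⁆ := Subtype.ext rfl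
  rw [this, map_commutatorElement, commutatorElement_def, h1, mul_inv_cancel]

/-! ### A unique involution -/

/-- `z` is the only involution of `J`. -/
structure Uniq (J : Subgroup G) (z : G) : Prop where
  mem : z ∈ J
  ord : orderOf z = 2
  only : ∀ t ∈ J, orderOf t = 2 → t = z

theorem Uniq.cmap {J : Subgroup G} {z : G} (h : Uniq J z) (g : G) :
    Uniq (cmap g J) (g * z * g⁻¹) where
  mem := conj_mem_cmap h.mem
  ord := ((MulAut.conj g).orderOf_eq z).trans h.ord
  only t ht ho := by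
    have := h.only _ (mem_cmap.1 ht) (by
      rw [← (MulAut.conj g).orderOf_eq, MulAut.conj_apply]
      rwa [show g * (g⁻¹ * t * g) * g⁻¹ = t by group])
    rw [← this]; group

theorem Uniq.sq {J : Subgroup G} {z : G} (h : Uniq J z) : z * z = 1 := by
  rw [← pow_two, ← h.ord]; exact pow_orderOf_eq_one z

theorem Uniq.eq_or {J : Subgroup G} {z : G} (h : Uniq J z) {t : G} (ht : t ∈ J) (hsq : t * t = 1) :
    t = 1 ∨ t = z := by
  rcases eq_or_ne t 1 with h1 | h1
  · exact Or.inl h1
  · exact Or.inr (h.only t ht (orderOf_eq_prime (by rw [pow_two, hsq]) h1))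

theorem two_gen_quaternion {n : ℕ} (hn : 1 ≤ n) :
    Subgroup.closure ({QuaternionGroup.a 1, QuaternionGroup.xa 0} : Set (QuaternionGroup n)) = ⊤ := by
  haveI : NeZero n := ⟨by omega⟩
  rw [eq_top_iff]
  intro x _
  have ha : ∀ i : ZMod (2 * n), QuaternionGroup.a i ∈
      Subgroup.closure ({QuaternionGroup.a 1, QuaternionGroup.xa 0} : Set (QuaternionGroup n)) := by
    intro i
    have : QuaternionGroup.a i = (QuaternionGroup.a 1 : QuaternionGroup n) ^ i.val := by
      rw [QuaternionGroup.a_one_pow, ZMod.natCast_zmod_val]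
    rw [this]
    exact pow_mem (subset_closure (Set.mem_insert _ _)) _
  rcases x with i | i
  · exact ha i
  · have : QuaternionGroup.xa i = (QuaternionGroup.xa 0 : QuaternionGroup n) * QuaternionGroup.a i := by
      rw [QuaternionGroup.xa_mul_a, zero_add]
    rw [this]
    exact mul_mem (subset_closure (Set.mem_insert_of_mem _ rfl)) (ha i)

/-- The subgroups of order 2 of a group with one involution. -/
theorem uniq_order_two {Q : Subgroup G} {J : Subgroup G} {z : G} (hz : Uniq J z) (hQ : Q ≤ J)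
    (H K : Subgroup ↥Q) (hH : Nat.card H = 2) (hK : Nat.card K = 2) : H = K := by
  have h : ∀ M : Subgroup ↥Q, Nat.card M = 2 → ∃ x : ↥Q, (x : G) = z ∧ zpowers x = M := by
    intro M hM
    obtain ⟨x, hx⟩ := exists_prime_orderOf_dvd_card' (G := ↥M) 2 (by rw [hM])
    refine ⟨x, hz.only _ (hQ x.1.2) (by rw [Subgroup.orderOf_coe, Subgroup.orderOf_coe]; exact hx),
      Subgroup.eq_of_le_of_card_ge (zpowers_le.mpr x.2) ?_⟩
    rw [hM, Nat.card_zpowers, Subgroup.orderOf_coe, hx]
  obtain ⟨x, hx, rfl⟩ := h H hH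
  obtain ⟨y, hy, rfl⟩ := h K hK
  rw [Subtype.ext (hx.trans hy.symm) (a1 := x) (a2 := y)]

theorem exists_quat {J : Subgroup G} {z : G} (hJ : ⁅J, J⁆ = J) (hz : Uniq J z) {Q : Subgroup G}
    (hQJ : Q ≤ J) (hQ : IsPGroup 2 ↥Q) (hidx : ¬ 2 ∣ Q.relIndex J) :
    ∃ a ∈ Q, ∃ b ∈ Q, a * a = z ∧ b * b = z ∧ b * a * b⁻¹ = a⁻¹ := by
  have heven : 2 ∣ Nat.card ↥J := by
    rw [← hz.ord, ← Subgroup.orderOf_mk z hz.mem]; exact orderOf_dvd_natCard _
  rcases PGroup.cyclic_or_quaternion_of_unique hQ (fun H K => uniq_order_two hz hQJ H K) with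
    hcyc | ⟨-, n, hn, -, ⟨e⟩⟩
  · exfalso
    let P : Sylow 2 ↥J := (hQ.of_equiv (subgroupOfEquivOfLe hQJ).symm).toSylow hidx
    haveI hcP : IsCyclic ↥(P : Subgroup ↥J) :=
      (MulEquiv.isCyclic (subgroupOfEquivOfLe hQJ)).2 hcyc
    have hp : 2 = (Nat.card ↥J).minFac := ((Nat.minFac_eq_two_iff _).mpr heven).symm
    have hN := IsCyclic.normalizer_le_centralizer (G := ↥J) (P := P) hp.symm hcP
    haveI : Group.IsPerfect ↥J := isPerfect_iff.mpr hJ
    have htop : (MonoidHom.transferSylow P hN).ker = ⊤ := by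
      rw [eq_top_iff, ← Group.IsPerfect.commutator_eq_top (G := ↥J), _root_.commutator_def, commutator_le]
      intro a _ b _
      rw [MonoidHom.mem_ker, map_commutatorElement, commutatorElement_eq_one_iff_mul_comm]
      exact hcP.commutative.is_comm.comm _ _
    have h2 := MonoidHom.not_dvd_card_ker_transferSylow P hN
    rw [htop, card_top] at h2
    exact h2 heven
  · have hN : 0 < 2 ^ n := Nat.two_pow_pos n
    haveI : NeZero (2 ^ n) := ⟨hN.ne'⟩
    have hhalf : 2 ^ (n - 1) + 2 ^ (n - 1) = 2 ^ n := by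
      rw [← two_mul, ← pow_succ']; congr 1; omega
    set i : ZMod (2 * 2 ^ n) := ((2 ^ (n - 1) : ℕ) : ZMod (2 * 2 ^ n)) with hi
    have hii : i + i = ((2 ^ n : ℕ) : ZMod (2 * 2 ^ n)) := by rw [hi, ← Nat.cast_add, hhalf]
    set A : QuaternionGroup (2 ^ n) := .a i with hA
    set B : QuaternionGroup (2 ^ n) := .xa 0 with hB
    set w : QuaternionGroup (2 ^ n) := .a ((2 ^ n : ℕ) : ZMod (2 * 2 ^ n)) with hw
    have hA2 : A * A = w := by rw [hA, hw, QuaternionGroup.a_mul_a, hii]
    have hB2 : B * B = w := by rw [hB, hw, QuaternionGroup.xa_mul_xa]; simp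
    have hrel : B * A = A⁻¹ * B := by
      rw [eq_inv_mul_iff_mul_eq, hA, hB, QuaternionGroup.xa_mul_a, QuaternionGroup.a_mul_xa]
      simp
    have hw1 : w ≠ 1 := by
      rw [hw, QuaternionGroup.one_def, Ne, QuaternionGroup.a.injEq, ZMod.natCast_eq_zero_iff]
      exact fun h => absurd (Nat.le_of_dvd hN h) (by omega)
    have hw2 : w * w = 1 := by
      rw [hw, QuaternionGroup.a_mul_a, ← Nat.cast_add, ← two_mul, ZMod.natCast_self,
        ← QuaternionGroup.one_def]
    have hwz : ((e.symm w : ↥Q) : G) = z := by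
      refine (hz.eq_or (hQJ (e.symm w).2) ?_).resolve_left fun h => hw1 ?_
      · rw [← Subgroup.coe_mul, ← map_mul, hw2, map_one]; rfl
      · have : e.symm w = 1 := Subtype.ext h
        simpa using congrArg e this
    refine ⟨_, (e.symm A).2, _, (e.symm B).2, ?_, ?_, ?_⟩
    · rw [← Subgroup.coe_mul, ← map_mul, hA2, hwz]
    · rw [← Subgroup.coe_mul, ← map_mul, hB2, hwz]
    · rw [← Subgroup.coe_inv, ← Subgroup.coe_mul, ← Subgroup.coe_mul, ← map_inv, ← map_mul, ← map_mul,
        ← Subgroup.coe_inv, ← map_inv, hrel, mul_inv_cancel_right]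

/-- A 2-element of `J` central modulo the core is `1` or `z`. -/
theorem PC.eq_one_or_of_central {J H : Subgroup G} (h : PC J H) {z : G} (hz : Uniq J z) {x : G}
    (hx : x ∈ J) {k : ℕ} (hk : x ^ 2 ^ k = 1) (hc : ∀ j ∈ J, ⁅j, x⁆ ∈ cr H) : x = 1 ∨ x = z := by
  induction k generalizing x with
  | zero => left; simpa using hk
  | succ k ih =>
    have h2 : (x * x) ^ 2 ^ k = 1 := by rw [← pow_two, ← pow_mul, ← pow_succ', hk]
    have hc2 : ∀ j ∈ J, ⁅j, x * x⁆ ∈ cr H := fun j hj => by
      rw [show ⁅j, x * x⁆ = ⁅j, x⁆ * (x * ⁅j, x⁆ * x⁻¹) by simp only [commutatorElement_def]; group]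
      exact mul_mem (hc j hj)
        (conj_mem_cr (Subgroup.le_normalizer (h.le hx)) (hc j hj))
    rcases ih (mul_mem hx hx) h2 hc2 with hsq | hsq
    · exact hz.eq_or hx hsq
    · exfalso
      have hxp : IsPGroup 2 ↥(zpowers (⟨x, hx⟩ : ↥J)) := by
        intro y
        obtain ⟨m, hm⟩ := y.2
        refine ⟨k + 1, Subtype.ext ?_⟩
        have h0 : (⟨x, hx⟩ : ↥J) ^ (2 ^ (k + 1)) = 1 := Subtype.ext (by simpa using hk)
        rw [SubmonoidClass.coe_pow, OneMemClass.coe_one, ← hm, ← zpow_natCast, ← zpow_mul, mul_comm, zpow_mul,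
          zpow_natCast, h0, one_zpow]
      obtain ⟨P, hP⟩ := hxp.exists_le_sylow
      set Q := (P : Subgroup ↥J).map J.subtype with hQdef
      have hQJ : Q ≤ J := map_subtype_le _
      have hQp : IsPGroup 2 ↥Q := P.2.map _
      have hidx : ¬ 2 ∣ Q.relIndex J := by
        rw [hQdef, relIndex, subgroupOf, comap_map_eq_self_of_injective J.subtype_injective]
        exact P.not_dvd_index
      have hxQ : x ∈ Q := ⟨⟨x, hx⟩, hP (mem_zpowers _), rfl⟩
      obtain ⟨a, ha, b, hb, ha2, -, hrel⟩ := exists_quat h.perfect hz hQJ hQp hidx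
      have hcomm : ∀ q ∈ Q, q * x = x * q := fun q hq =>
        commutatorElement_eq_one_iff_mul_comm.1 (eq_one_of_mem_cr_pGroup hQp (hc q (hQJ hq))
          (commutatorElement_def q x ▸ mul_mem (mul_mem (mul_mem hq hxQ) (inv_mem hq)) (inv_mem hxQ)))
      have hax : (a * x) * (a * x) = 1 := by
        calc (a * x) * (a * x) = a * (x * a) * x := by group
          _ = a * (a * x) * x := by rw [hcomm a ha]
          _ = (a * a) * (x * x) := by group
          _ = 1 := by rw [ha2, hsq, hz.sq]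
      have hxa : x = a ∨ x = a⁻¹ := by
        rcases hz.eq_or (mul_mem (hQJ ha) hx) hax with e | e
        · exact Or.inr (eq_inv_of_mul_eq_one_right e)
        · exact Or.inl (mul_left_cancel (e.trans ha2.symm))
      have : b * x * b⁻¹ = x⁻¹ := by
        rcases hxa with rfl | rfl
        · exact hrel
        · rw [show b * a⁻¹ * b⁻¹ = (b * a * b⁻¹)⁻¹ by group, hrel]
      rw [hcomm b hb, mul_inv_cancel_right] at this
      have h1 : x * x = 1 := mul_eq_one_iff_eq_inv.2 this
      rw [hsq] at h1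
      exact absurd hz.ord (by rw [h1, orderOf_one]; omega)

include hFT hS in
/-- `Out S` is solvable. -/
theorem isSolvable_out {J : Subgroup G} {z : G} (hz : Uniq J z) (π : ↥J →* S)
    (hπ : Function.Surjective π) : Group.IsSolvable (Cfsg.Out S) := by
  have heven : Even (Nat.card S) := by
    rw [← Nat.not_odd_iff_even]
    exact fun ho => hS ⟨⟨IsSimpleGroup.comm_iff_isSolvable.2 (hFT S ho)⟩⟩
  obtain ⟨PJ⟩ : Nonempty (Sylow 2 ↥J) := inferInstance
  set P := PJ.mapSurjective hπ with hP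
  refine SylowCentralAut.isSolvable_out_of_aut hS hFT heven P ?_
  haveI : Group.IsSolvable ↥(P : Subgroup S) :=
    haveI := P.2.isNilpotent
    inferInstance
  refine SolvableAut.isSolvable_mulAut fun p hp Q hQ => ?_
  haveI := Fact.mk hp
  by_cases h2 : p = 2
  swap
  · right
    have h1 : Nat.card ↥Q = 1 := by
      by_contra hne
      obtain ⟨j, hj⟩ := IsPGroup.iff_card.1 hQ
      have hj0 : j ≠ 0 := fun h => hne (by rw [hj, h, pow_zero])
      obtain ⟨i, hi⟩ := IsPGroup.iff_card.1 P.2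
      have hd : p ∣ 2 ^ i := ((dvd_pow_self p hj0).trans hj.symm.dvd).trans
        (hi ▸ card_subgroup_dvd_card Q)
      exact h2 ((Nat.prime_dvd_prime_iff_eq hp Nat.prime_two).1 (hp.dvd_of_dvd_pow hd))
    haveI : Subsingleton ↥Q := (Nat.card_eq_one_iff_unique.1 h1).1
    rw [Nat.card_eq_one_iff_unique.2 ⟨inferInstance, inferInstance⟩]
    exact one_dvd p
  · subst h2
    left
    let φ : ↥(PJ : Subgroup ↥J) →* ↥(P : Subgroup S) :=
      (π.comp (PJ : Subgroup ↥J).subtype).codRestrict _ fun x => mem_map_of_mem π x.2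
    have hφ : Function.Surjective φ := fun y => by
      obtain ⟨x, hx, he⟩ := y.2
      exact ⟨⟨x, hx⟩, Subtype.ext he⟩
    set Q0 := Q.comap φ with hQ0
    let ψ : ↥Q0 →* ↥Q := φ.subgroupComap Q
    have hψ : Function.Surjective ψ := fun y => by
      obtain ⟨x, hx⟩ := hφ y
      exact ⟨⟨x, show φ x ∈ Q from hx ▸ y.2⟩, Subtype.ext hx⟩
    set M := Q0.map (J.subtype.comp (PJ : Subgroup ↥J).subtype) with hM
    have hMJ : M ≤ J := by rintro _ ⟨x, -, rfl⟩; exact x.1.2
    have hinj : Function.Injective (J.subtype.comp (PJ : Subgroup ↥J).subtype) :=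
      fun a b hab => Subtype.ext (Subtype.ext hab)
    let eM : ↥Q0 ≃* ↥M := Q0.equivMapOfInjective _ hinj
    have hMp : IsPGroup 2 ↥M := (PJ.2.to_subgroup Q0).of_equiv eM
    obtain ⟨g₁, g₂, hg⟩ : ∃ g₁ g₂ : ↥M, closure ({g₁, g₂} : Set ↥M) = ⊤ := by
      rcases PGroup.cyclic_or_quaternion_of_unique hMp (fun H K => uniq_order_two hz hMJ H K) with
        hcyc | ⟨-, n, hn, -, ⟨e⟩⟩
      · obtain ⟨g, hg⟩ := hcyc.exists_generator
        exact ⟨g, g, eq_top_iff.2 fun x _ => zpowers_le.2 (subset_closure (Set.mem_insert g _)) (hg x)⟩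
      · refine ⟨e.symm (.a 1), e.symm (.xa 0), ?_⟩
        have := congrArg (Subgroup.map e.symm.toMonoidHom) (two_gen_quaternion (n := 2 ^ n) Nat.one_le_two_pow)
        rw [MonoidHom.map_closure, Set.image_pair, map_top_of_surjective _ e.symm.surjective] at this
        exact this
    classical
    set χ := ψ.comp eM.symm.toMonoidHom with hχ
    have hcl : closure (({χ g₁, χ g₂} : Finset ↥Q) : Set ↥Q) = ⊤ := by
      have := congrArg (Subgroup.map χ) hg
      rw [MonoidHom.map_closure, Set.image_pair,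
        map_top_of_surjective χ (hψ.comp eM.symm.surjective)] at this
      rwa [Finset.coe_insert, Finset.coe_singleton]
    have hle := PGroup.card_closure_sup_frattini_le hQ ({χ g₁, χ g₂} : Finset ↥Q)
    rw [hcl, top_sup_eq, card_top, card_eq_card_quotient_mul_card_subgroup (frattini ↥Q),
      mul_comm (Nat.card (↥Q ⧸ _))] at hle
    exact (Nat.le_of_mul_le_mul_left hle Nat.card_pos).trans
      ((Nat.pow_le_pow_right (by norm_num) Finset.card_le_two).trans (by norm_num))

end Cfsg.Agent.SL2Comp
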