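import Cfsg.Agent.Lib.SL2Comp.Pair
import Cfsg.Agent.Lib.Subnormal.SylowJoin
import Cfsg.Agent.Lib.PGroup.Basic

/-!
# Intrinsic components and their involutions

`normalizes`: let `J`, `K` be 2-components of the centralisers of their unique involutions `z`, `k`, over
the same simple group.  If `z` normalises `K` then `k` normalises `J`.
-/

set_option autoImplicit false
set_option linter.unusedSectionVars false
set_option linter.style.haveILetI false
set_option maxHeartbeats 1000000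
set_option linter.unusedSimpArgs false

namespace Cfsg.Agent.SL2Comp

open Subgroup Cfsg
open scoped commutatorElement

universe u

local instance : Fact (Nat.Prime 2) := ⟨Nat.prime_two⟩

variable {G : Type u} [Group G] [Finite G]

theorem exists_sylow_in {H U : Subgroup G} (hU : IsPGroup 2 ↥U) (hUH : U ≤ H) :
    ∃ T : Subgroup G, T ≤ H ∧ U ≤ T ∧ IsPGroup 2 ↥T ∧
      ∀ J : Subgroup G, J ≤ H → (J.subgroupOf H).IsSubnormal → ¬ 2 ∣ (T ⊓ J).relIndex J := by
  obtain ⟨P, hP⟩ := (hU.of_equiv (subgroupOfEquivOfLe hUH).symm).exists_le_sylow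
  refine ⟨(P : Subgroup ↥H).map H.subtype, map_subtype_le _, ?_, P.2.map _, fun J hJ hs => ?_⟩
  · rw [← map_subgroupOf_eq_of_le hUH]; exact map_mono hP
  · have h := SylowJoin.not_dvd_relIndex_inf P hs
    have e : ((P : Subgroup ↥H).map H.subtype ⊓ J).subgroupOf H = (P : Subgroup ↥H) ⊓ J.subgroupOf H := by
      ext x
      simp only [mem_subgroupOf, mem_inf, mem_map]
      constructor
      · rintro ⟨⟨y, hy, hxy⟩, hx⟩; exact ⟨(Subtype.ext hxy : y = x) ▸ hy, hx⟩
      · rintro ⟨hx, hxJ⟩; exact ⟨⟨x, hx, rfl⟩, hxJ⟩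
    rwa [← e, relIndex_subgroupOf hJ] at h

theorem isPGroup_zpowers {x : G} {n : ℕ} (hn : x ^ 2 ^ n = 1) : IsPGroup 2 ↥(zpowers x) := by
  intro y
  obtain ⟨m, hm⟩ := y.2
  refine ⟨n, Subtype.ext ?_⟩
  rw [SubmonoidClass.coe_pow, OneMemClass.coe_one, ← hm, ← zpow_natCast, ← zpow_mul, mul_comm, zpow_mul,
    zpow_natCast, hn, one_zpow]

theorem commute_of_mem_cr {T H : Subgroup G} (hT : IsPGroup 2 ↥T) {x y : G} (hx : x ∈ T) (hy : y ∈ T)
    (h : ⁅x, y⁆ ∈ cr H) : x * y = y * x :=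
  commutatorElement_eq_one_iff_mul_comm.1 (eq_one_of_mem_cr_pGroup hT h
    (commutatorElement_def x y ▸ mul_mem (mul_mem (mul_mem hx hy) (inv_mem hx)) (inv_mem hy)))

theorem exists_pow_two_eq_one {T : Subgroup G} (hT : IsPGroup 2 ↥T) {x : G} (hx : x ∈ T) :
    ∃ n : ℕ, x ^ 2 ^ n = 1 := by
  obtain ⟨n, hn⟩ := hT ⟨x, hx⟩
  exact ⟨n, congrArg Subtype.val hn⟩

/-- A 2-element outside `{1, k}` has a power of order four. -/
theorem exists_pow_sq_eq {K : Subgroup G} {k : G} (uK : Uniq K k) {x : G} (hx : x ∈ K) {n : ℕ}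
    (hn : x ^ 2 ^ n = 1) (h1 : x ≠ 1) (hk : x ≠ k) : ∃ i : ℕ, x ^ i * x ^ i = k := by
  induction n generalizing x with
  | zero => exact absurd (by simpa using hn) h1
  | succ n ih =>
    have h2 : x * x ≠ 1 := fun h => (uK.eq_or hx h).elim h1 hk
    rcases eq_or_ne (x * x) k with hk2 | hk2
    · exact ⟨1, by rwa [pow_one]⟩
    · obtain ⟨i, hi⟩ := ih (mul_mem hx hx) (by rw [← pow_two, ← pow_mul, ← pow_succ', hn]) h2 hk2
      refine ⟨2 * i, ?_⟩
      rwa [← pow_two x, ← pow_mul] at hi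

theorem PC.mem_normalizer_of_central {P D : Subgroup G} (hP : PC P D) {y : G}
    (hy : y ∈ normalizer (D : Set G)) (h : ∀ p ∈ P, ∀ q ∈ P, ⁅q, y * p * y⁻¹ * p⁻¹⁆ ∈ cr D) :
    y ∈ normalizer (P : Set G) := by
  refine mem_normalizer_of_cmap_eq ?_
  by_contra hne
  apply hP.not_commutator_le
  rw [Subgroup.commutator_le]
  intro q hq p hp
  have hd := hP.commutator_le (hP.conj_mem hy) (Ne.symm hne) (commutator_mem_commutator hq (conj_mem_cmap hp (g := y)))
  set l := y * p * y⁻¹ * p⁻¹ with hl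
  have e : y * p * y⁻¹ = l * p := by rw [hl]; group
  rw [e, show ⁅q, l * p⁆ = ⁅q, l⁆ * (l * ⁅q, p⁆ * l⁻¹) by simp only [commutatorElement_def]; group] at hd
  have hlD : l ∈ D := mul_mem ((mem_normalizer_iff.1 hy p).1 (hP.le hp)) (inv_mem (hP.le hp))
  have h2 : l * ⁅q, p⁆ * l⁻¹ ∈ cr D := by
    have := mul_mem (inv_mem (h p hp q hq)) hd
    rwa [← hl, ← mul_assoc, inv_mul_cancel, one_mul] at this
  have h3 := conj_mem_cr (Subgroup.le_normalizer (inv_mem hlD)) h2
  rwa [show l⁻¹ * (l * ⁅q, p⁆ * l⁻¹) * l⁻¹⁻¹ = ⁅q, p⁆ by group] at h3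

theorem exists_perfect_le {X : Subgroup G} {B : Type*} [Group B] [Finite B] [Group.IsPerfect B]
    (φ : ↥X →* B) (hφ : Function.Surjective φ) :
    ∃ N : Subgroup ↥X, ⁅N, N⁆ = N ∧ N.map φ = ⊤ := by
  obtain ⟨N, hN, hmin⟩ := (Set.toFinite {N : Subgroup ↥X | N.map φ = ⊤}).exists_minimal
    ⟨⊤, map_top_of_surjective φ hφ⟩
  refine ⟨N, le_antisymm N.commutator_le_self (hmin ?_ N.commutator_le_self), hN⟩
  show ⁅N, N⁆.map φ = ⊤
  rw [map_commutator, hN, ← _root_.commutator_def, Group.IsPerfect.commutator_eq_top]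

theorem comm_left {a b : G} (h : a * b = b * a) (x : G) : a * (b * x) = b * (a * x) := by
  rw [← mul_assoc, h, mul_assoc]

variable {S : Type u} [Group S] [Finite S] [IsSimpleGroup S]

theorem normalizes (hFT : FTConsumers.OddOrder.{u}) (hS : ¬ IsMulCommutative S) {J K : Subgroup G}
    {z k : G} (hJ : PC J (cz z)) (uJ : Uniq J z) (hK : PC K (cz k)) (uK : Uniq K k)
    (tJ : Typ S J) (tK : Typ S K) (hzK : z ∈ normalizer (K : Set G)) :
    k ∈ normalizer (J : Set G) := by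
  have hout : Group.IsSolvable (Cfsg.Out S) := by
    obtain ⟨π, hπ, -⟩ := tJ; exact isSolvable_out hFT hS uJ π hπ
  by_contra hkJ
  have hk2 : k * k = 1 := uK.sq
  have hz2 : z * z = 1 := uJ.sq
  have hk1 : k ≠ 1 := fun h => by have := uK.ord; rw [h, orderOf_one] at this; omega
  have hz1 : z ≠ 1 := fun h => by have := uJ.ord; rw [h, orderOf_one] at this; omega
  have hzk : z * k = k * z := by
    have := uK.only _ ((mem_normalizer_iff.1 hzK k).1 uK.mem) (((MulAut.conj z).orderOf_eq k).trans uK.ord)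
    calc z * k = (z * k * z⁻¹) * z := by group
      _ = k * z := by rw [this]
  have hkC : k ∈ cz z := mem_cz.2 hzk.symm
  have sw : Swap J (cz z) k := ⟨hJ, hkC, hk2, hkJ⟩
  obtain ⟨P, dP⟩ := sw.exists_diag hFT hS tJ
  set D := cz z ⊓ cz k with hD
  have hkinv : k⁻¹ = k := sw.inv_eq
  have hzinv : z⁻¹ = z := inv_eq_of_mul_eq_one_right hz2
  -- a quaternion pair in a Sylow 2-subgroup of `C(z)` containing `k`
  obtain ⟨T0, hT0C, hkT0, hT0, hT0i⟩ := exists_sylow_in (U := zpowers k) (H := cz z)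
    (isPGroup_zpowers (n := 1) (by rw [pow_one, pow_two, hk2]))
    (zpowers_le.2 hkC)
  obtain ⟨a, ha, b, hb, ha2, hb2, hrel⟩ := exists_quat hJ.perfect uJ (inf_le_right : T0 ⊓ J ≤ J)
    (hT0.to_le inf_le_left) (hT0i J hJ.le hJ.comp.1)
  have kT0 : k ∈ T0 := hkT0 (mem_zpowers k)
  set a' := k * a * k⁻¹ with ha'
  set b' := k * b * k⁻¹ with hb'
  have ha'T : a' ∈ T0 := mul_mem (mul_mem kT0 ha.1) (inv_mem kT0)
  have hb'T : b' ∈ T0 := mul_mem (mul_mem kT0 hb.1) (inv_mem kT0)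
  have hpart : ∀ x ∈ T0 ⊓ J, ∀ y ∈ T0 ⊓ J, x * (k * y * k⁻¹) = (k * y * k⁻¹) * x := fun x hx y hy =>
    commute_of_mem_cr hT0 hx.1 (mul_mem (mul_mem kT0 hy.1) (inv_mem kT0))
      (hJ.commutator_le sw.pc' sw.ne (commutator_mem_commutator hx.2 (conj_mem_cmap hy.2)))
  have caa : a * a' = a' * a := hpart a ha a ha
  have cab : a * b' = b' * a := hpart a ha b hb
  have cba : b * a' = a' * b := hpart b hb a ha
  have cbb : b * b' = b' * b := hpart b hb b hb
  obtain ⟨e, he⟩ : ∃ e, e = a * a' := ⟨_, rfl⟩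
  obtain ⟨f, hf⟩ : ∃ f, f = b * b' := ⟨_, rfl⟩
  have haz : a * z = z * a := mem_cz.1 (hJ.le ha.2)
  have hbz : b * z = z * b := mem_cz.1 (hJ.le hb.2)
  have hkzk : k * z * k⁻¹ = z := by rw [← hzk, mul_inv_cancel_right]
  have ha'2 : a' * a' = z := by
    rw [ha', show k * a * k⁻¹ * (k * a * k⁻¹) = k * (a * a) * k⁻¹ by group, ha2, hkzk]
  have hb'2 : b' * b' = z := by
    rw [hb', show k * b * k⁻¹ * (k * b * k⁻¹) = k * (b * b) * k⁻¹ by group, hb2, hkzk]
  have hainv : a⁻¹ = a * z := inv_eq_of_mul_eq_one_right (by rw [← mul_assoc, ha2, hz2])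
  have hba : b * a = a⁻¹ * b := by rw [← hrel]; group
  have haba : a * b * a⁻¹ = b * z := by
    have : a * b = b * a⁻¹ := by
      have h1 : b⁻¹ * a * b = a⁻¹ := by
        have := congrArg (·⁻¹) hrel
        have h2 : b * a⁻¹ * b⁻¹ = a := by
          simpa [mul_assoc] using this
        calc b⁻¹ * a * b = b⁻¹ * (b * a⁻¹ * b⁻¹) * b := by rw [h2]
          _ = a⁻¹ := by group
      rw [← h1]; group
    rw [this, mul_assoc, ← mul_inv_rev, ha2, hzinv]
  have ee : e * e = 1 := by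
    rw [he, show a * a' * (a * a') = a * (a' * a) * a' by group, ← caa,
      show a * (a * a') * a' = (a * a) * (a' * a') by group, ha2, ha'2, hz2]
  have ff : f * f = 1 := by
    rw [hf, show b * b' * (b * b') = b * (b' * b) * b' by group, ← cbb,
      show b * (b * b') * b' = (b * b) * (b' * b') by group, hb2, hb'2, hz2]
  have ePmem : e ∈ P := he ▸ dP.mem a ha.2 caa 1 (by rw [pow_one, pow_two, ← he]; exact ee)
  have fPmem : f ∈ P := hf ▸ dP.mem b hb.2 cbb 1 (by rw [pow_one, pow_two, ← hf]; exact ff)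
  have ez : e * z = z * e := mem_cz.1 (dP.pc.le ePmem).1
  have ek : e * k = k * e := mem_cz.1 (dP.pc.le ePmem).2
  have fz : f * z = z * f := mem_cz.1 (dP.pc.le fPmem).1
  have fk : f * k = k * f := mem_cz.1 (dP.pc.le fPmem).2
  have kz : k * z = z * k := hzk.symm
  -- conjugation by `a`
  have Ak : a * k * a⁻¹ = z * (k * e) := by
    have : a * k * a⁻¹ = a * a'⁻¹ * k := by rw [ha']; group
    have ha'inv : a'⁻¹ = a' * z := inv_eq_of_mul_eq_one_right (by rw [← mul_assoc, ha'2, hz2])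
    rw [this, ha'inv, show a * (a' * z) * k = e * z * k by rw [he]; group, ez, mul_assoc, ek]
  have Az : a * z * a⁻¹ = z := by rw [haz, mul_inv_cancel_right]
  have Ae : a * e * a⁻¹ = e := by
    rw [he, show a * (a * a') * a⁻¹ = a * (a * a' * a⁻¹) by group,
      show a * a' * a⁻¹ = a' by rw [caa, mul_inv_cancel_right]]
  have Af : a * f * a⁻¹ = z * f := by
    rw [hf, show a * (b * b') * a⁻¹ = (a * b * a⁻¹) * (a * b' * a⁻¹) by group, haba, cab,
      mul_inv_cancel_right, hbz, mul_assoc]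
  have fe : f * e = e * f := by
    have h1 : b * a = z * (a * b) := by rw [hba, hainv, haz, mul_assoc]
    have h2 : b' * a' = z * (a' * b') := by
      rw [ha', hb', show k * b * k⁻¹ * (k * a * k⁻¹) = k * (b * a) * k⁻¹ by group, h1]
      calc k * (z * (a * b)) * k⁻¹ = (k * z * k⁻¹) * (k * (a * b) * k⁻¹) := by group
        _ = z * (k * a * k⁻¹ * (k * b * k⁻¹)) := by rw [hkzk]; group
    calc f * e = b * (b' * a) * a' := by rw [hf, he]; group
      _ = b * (a * b') * a' := by rw [cab]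
      _ = (b * a) * (b' * a') := by group
      _ = z * (a * b) * (z * (a' * b')) := by rw [h1, h2]
      _ = z * (a * (b * z) * a' * b') := by group
      _ = z * (a * (z * b) * a' * b') := by rw [hbz]
      _ = z * ((a * z) * (b * a') * b') := by group
      _ = z * ((z * a) * (a' * b) * b') := by rw [haz, cba]
      _ = (z * z) * ((a * a') * (b * b')) := by group
      _ = e * f := by rw [hz2, one_mul, he, hf]
  -- a Sylow 2-subgroup of `C(k)`
  have hzT0 : z ∈ T0 := ha2 ▸ mul_mem ha.1 ha.1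
  have eT0 : e ∈ T0 := he ▸ mul_mem ha.1 ha'T
  have fT0 : f ∈ T0 := hf ▸ mul_mem hb.1 hb'T
  obtain ⟨T1, hT1C, hT01, hT1, hT1i⟩ := exists_sylow_in (U := T0 ⊓ cz k) (H := cz k)
    (hT0.to_le inf_le_left) inf_le_right
  have zT1 : z ∈ T1 := hT01 ⟨hzT0, mem_cz.2 hzk⟩
  have kT1 : k ∈ T1 := hT01 ⟨kT0, mem_cz.2 rfl⟩
  have eT1 : e ∈ T1 := hT01 ⟨eT0, mem_cz.2 ek⟩
  have fT1 : f ∈ T1 := hT01 ⟨fT0, mem_cz.2 fk⟩
  set Lk := (pLayer 2 ↥(cz k)).map (cz k).subtype with hLk
  have hLn : cz k ≤ normalizer (Lk : Set G) := le_normalizer.trans (normalizer_le_normalizer_layer (cz k))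
  have hLD : D ≤ normalizer ((Lk ⊓ D : Subgroup G) : Set G) :=
    (le_inf (inf_le_right.trans hLn) le_normalizer).trans inf_normalizer_le_normalizer_inf
  have a_ne : a ≠ 1 ∧ a ≠ z := by
    refine ⟨fun h => hz1 ?_, fun h => hz1 ?_⟩
    · rw [← ha2, h, one_mul]
    · rw [← ha2, h, hz2]
  have he1 : e ≠ 1 := by
    intro h
    have hmem : a ∈ cmap k J := by
      rw [show a = a'⁻¹ from eq_inv_of_mul_eq_one_left (he ▸ h)]
      exact inv_mem (conj_mem_cmap ha.2)
    obtain ⟨n, hn⟩ := exists_pow_two_eq_one hT0 ha.1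
    exact (hJ.eq_one_or_of_central uJ ha.2 hn (hJ.central_of_mem sw.pc' sw.ne hmem)).elim a_ne.1 a_ne.2
  have hek : e ≠ k := fun h => hkJ (h ▸ he ▸ mul_mem (Subgroup.le_normalizer ha.2)
    (hJ.le_normalizer sw.pc' (conj_mem_cmap ha.2)))
  have heK : ¬ P ≤ K := fun hle =>
    (uK.eq_or (hle ePmem) ee).elim he1 hek
  -- no element of order four of `K` centralises `z`
  have noY : ∀ y ∈ T1 ⊓ K, y * z = z * y → y = 1 ∨ y = k := by
    intro x hx hxz
    by_contra hno
    push Not at hno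
    obtain ⟨n, hn⟩ := exists_pow_two_eq_one hT1 hx.1
    obtain ⟨i, hi⟩ := exists_pow_sq_eq uK hx.2 hn hno.1 hno.2
    set y := x ^ i
    have hyK : y ∈ K := pow_mem hx.2 i
    have hyD : y ∈ D := ⟨mem_cz.2 (Commute.pow_left hxz i).eq, hK.le hyK⟩
    have hnorm : y ∈ normalizer (P : Set G) := by
      have hcase : ∀ M : Subgroup G, y ∈ M → ⁅P, M⁆ ≤ cr D → y ∈ normalizer (P : Set G) := by
        intro M hyM hM
        refine dP.pc.mem_normalizer_of_central (Subgroup.le_normalizer hyD) fun p hp q hq => ?_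
        have h1 : ⁅y, p⁆ ∈ cr D := by
          rw [← commutatorElement_inv]; exact inv_mem (hM (commutator_mem_commutator hp hyM))
        rw [← commutatorElement_def y p, commutatorElement_def q]
        have hqn : q ∈ normalizer (D : Set G) := Subgroup.le_normalizer (dP.pc.le hq)
        exact mul_mem (conj_mem_cr hqn h1) (inv_mem h1)
      rcases dP.pc.le_or_commutator_le (inf_le_right : Lk ⊓ D ≤ D) hLD with hle | hc
      · have hKD : ((K ⊓ D).subgroupOf D).IsSubnormal := by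
          have e1 : (K ⊓ D).subgroupOf D =
              (K.subgroupOf (cz k)).comap (Subgroup.inclusion (inf_le_right : D ≤ cz k)) := by
            ext w; simp [mem_subgroupOf]
          rw [e1]
          exact hK.comp.1.comap _
        rcases dP.pc.le_or_commutator_le_of_isSubnormal inf_le_right hKD with h1 | h1
        · exact absurd (h1.trans inf_le_left) heK
        · exact hcase (K ⊓ D) ⟨hyK, hyD⟩ h1
      · exact hcase (Lk ⊓ D) ⟨hK.le_layer hyK, hyD⟩ hc
    have hyk : y * k = k * y := mem_cz.1 hyD.2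
    apply hkJ
    refine mem_normalizer_of_cmap_eq ?_
    rw [← hi, ← cmap_cmap]
    rcases dP.fix y hyD hnorm with h1 | h1
    · rw [h1, h1]
    · rw [h1, cmap_cmap, hyk, ← cmap_cmap, h1, sw.cmap_cmap_self]
  -- the element `d`
  obtain ⟨d, hdT, hdK, hd2, hzd⟩ : ∃ d, d ∈ T1 ∧ d ∈ K ∧ d * d = k ∧ z * d * z⁻¹ = d * k := by
    set W := T1 ⊓ normalizer (K : Set G) with hW
    have kW : k ∈ W := ⟨kT1, Subgroup.le_normalizer uK.mem⟩
    have zW : z ∈ W := ⟨zT1, hzK⟩
    have kc : ∀ w ∈ W, w * k = k * w := fun w hw => mem_cz.1 (hT1C hw.1)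
    set Nk := (zpowers k).subgroupOf W with hNk
    haveI : Nk.Normal := ⟨fun n hn w => by
      obtain ⟨i, hi⟩ := hn
      refine ⟨i, ?_⟩
      have hi' : k ^ i = (n : G) := hi
      show k ^ i = (w : G) * n * (w : G)⁻¹
      rw [← hi', ((show Commute (w : G) k from kc w w.2).zpow_right i).eq, mul_inv_cancel_right]⟩
    haveI : ((T1 ⊓ K).subgroupOf W).Normal := normal_subgroupOf_of_le_normalizer
      ((le_inf (inf_le_left.trans le_normalizer) inf_le_right).trans inf_normalizer_le_normalizer_inf)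
    set Qb := ((T1 ⊓ K).subgroupOf W).map (QuotientGroup.mk' Nk) with hQb
    haveI : Qb.Normal := Subgroup.Normal.map inferInstance _ (QuotientGroup.mk'_surjective _)
    obtain ⟨c₀, hc₀, -, -, hc₀2, -, -⟩ :=
      exists_quat hK.perfect uK (inf_le_right : T1 ⊓ K ≤ K) (hT1.to_le inf_le_left)
        (hT1i K hK.le hK.comp.1)
    have hmemk : ∀ x ∈ zpowers k, x = 1 ∨ x = k := fun x hx => by
      obtain ⟨i, rfl⟩ := hx
      refine uK.eq_or (zpow_mem uK.mem i) ?_
      show k ^ i * k ^ i = 1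
      rw [← (Commute.refl k).mul_zpow, hk2, one_zpow]
    have hne : Qb ≠ ⊥ := by
      intro hb
      rw [hQb, Subgroup.map_eq_bot_iff, QuotientGroup.ker_mk'] at hb
      have hcW : c₀ ∈ W := ⟨hc₀.1, Subgroup.le_normalizer hc₀.2⟩
      rcases hmemk c₀ (mem_subgroupOf.1 (hb (show (⟨c₀, hcW⟩ : ↥W) ∈ (T1 ⊓ K).subgroupOf W from hc₀))) with h1 | h1
      · exact hk1 (by rw [← hc₀2, h1, one_mul])
      · exact hk1 (by rw [← hc₀2, h1, hk2])
    obtain ⟨cb, hcb, hcz, hord⟩ :=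
      PGroup.exists_orderOf_eq_mem_center ((hT1.to_le (inf_le_left : W ≤ T1)).to_quotient Nk) Qb hne
    obtain ⟨w, hw, rfl⟩ := hcb
    have hwQ : (w : G) ∈ T1 ⊓ K := mem_subgroupOf.1 hw
    have hw1 : ¬ (w : G) ∈ zpowers k := fun hc => by
      rw [show QuotientGroup.mk' Nk w = 1 from (QuotientGroup.eq_one_iff w).2 hc, orderOf_one] at hord
      omega
    obtain ⟨n, hn⟩ := exists_pow_two_eq_one hT1 hwQ.1
    have hwk : (w : G) * k = k * w := kc _ w.2
    have hcm : z * (w : G) * z⁻¹ * (w : G)⁻¹ ∈ zpowers k := by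
      have h1 : QuotientGroup.mk' Nk ((⟨z, zW⟩ : ↥W) * w * (⟨z, zW⟩ : ↥W)⁻¹ * w⁻¹) = 1 := by
        rw [map_mul, map_mul, map_mul, map_inv, map_inv,
          mem_center_iff.1 hcz (QuotientGroup.mk' Nk ⟨z, zW⟩)]
        group
      exact mem_subgroupOf.1 ((QuotientGroup.eq_one_iff (N := Nk) _).1 h1)
    have hne1 : (w : G) ≠ 1 := fun h => hw1 (h ▸ one_mem _)
    have hnek : (w : G) ≠ k := fun h => hw1 (h ▸ mem_zpowers k)
    rcases hmemk _ hcm with h1 | h1
    · have hcomm : (w : G) * z = z * w := by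
        rw [mul_inv_eq_one] at h1
        exact (mul_inv_eq_iff_eq_mul.1 h1).symm
      exact ((noY _ hwQ hcomm).elim hne1 hnek).elim
    · have hzw : z * (w : G) * z⁻¹ = w * k := by rw [mul_inv_eq_iff_eq_mul.1 h1, hwk]
      have hsq : ((w : G) * w) * z = z * ((w : G) * w) := by
        have : z * ((w : G) * w) * z⁻¹ = (w : G) * w := by
          rw [show z * ((w : G) * w) * z⁻¹ = z * (w : G) * z⁻¹ * (z * (w : G) * z⁻¹) by group, hzw]
          calc (w : G) * k * (w * k) = w * (k * w) * k := by group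
            _ = w * (w * k) * k := by rw [hwk]
            _ = w * w * (k * k) := by group
            _ = w * w := by rw [hk2, mul_one]
        exact (mul_inv_eq_iff_eq_mul.1 this).symm
      rcases noY _ (mul_mem hwQ hwQ) hsq with h2 | h2
      · exact ((uK.eq_or hwQ.2 h2).elim hne1 hnek).elim
      · exact ⟨w, hwQ.1, hwQ.2, h2, hzw⟩
  have dk : d * k = k * d := mem_cz.1 (hK.le hdK)
  have Dz : d * z * d⁻¹ = z * k := by
    have h1 : d * k * d⁻¹ = k := by rw [dk, mul_inv_cancel_right]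
    calc d * z * d⁻¹ = z * (z⁻¹ * d * z) * d⁻¹ := by group
      _ = z * (z * d * z⁻¹) * d⁻¹ := by rw [hzinv]
      _ = z * (d * k * d⁻¹) := by rw [hzd]; group
      _ = z * k := by rw [h1]
  have Dk : d * k * d⁻¹ = k := by rw [dk, mul_inv_cancel_right]
  have dND : d ∈ normalizer (D : Set G) := by
    refine mem_normalizer_of_cmap_eq ?_
    rw [hD]
    show (cz z ⊓ cz k).map (MulAut.conj d).toMonoidHom = _
    rw [Subgroup.map_inf _ _ _ (MulAut.conj d).injective]
    show cmap d (cz z) ⊓ cmap d (cz k) = _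
    rw [cmap_cz, cmap_cz, Dz, Dk]
    ext w
    simp only [mem_inf, mem_cz]
    refine ⟨fun ⟨h1, h2⟩ => ⟨?_, h2⟩, fun ⟨h1, h2⟩ => ⟨?_, h2⟩⟩
    · calc w * z = w * (z * k) * k := by rw [mul_assoc, mul_assoc, hk2, mul_one]
        _ = z * k * w * k := by rw [h1]
        _ = z * (k * (w * k)) := by group
        _ = z * (k * (k * w)) := by rw [h2]
        _ = z * w := by rw [← mul_assoc k, hk2, one_mul]
    · rw [← mul_assoc, h1, mul_assoc, h2, ← mul_assoc]
  -- `P` normalises `K`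
  have hPK : P ≤ normalizer (K : Set G) := by
    rcases dP.pc.le_or_commutator_le (inf_le_right : Lk ⊓ D ≤ D) hLD with hle | hc
    · exact fun p hp => hK.layer_le_normalizer (hle hp).1
    have hdL : ∀ p ∈ P, ⁅d, p⁆ ∈ Lk ⊓ D := fun p hp => by
      refine ⟨?_, ?_⟩
      · rw [show ⁅d, p⁆ = d * (p * d⁻¹ * p⁻¹) by simp only [commutatorElement_def]; group]
        have h1 : d ∈ Lk := hK.le_layer hdK
        have h2 : d⁻¹ ∈ Lk := Lk.inv_mem h1
        exact Lk.mul_mem h1 ((mem_normalizer_iff.1 (hLn (dP.pc.le hp).2) _).1 h2)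
      · exact D.mul_mem ((mem_normalizer_iff.1 dND p).1 (dP.pc.le hp)) (D.inv_mem (dP.pc.le hp))
    have hdP : d ∈ normalizer (P : Set G) :=
      dP.pc.mem_normalizer_of_central dND fun p hp q hq => hc (commutator_mem_commutator hq (hdL p hp))
    have hmemP : ∀ p ∈ P, ⁅d, p⁆ ∈ P := fun p hp =>
      mul_mem ((mem_normalizer_iff.1 hdP p).1 hp) (inv_mem hp)
    have hcen : ∀ p ∈ P, ⁅d, p⁆ ∈ cr D := by
      set B := img P D with hB
      haveI : Group.IsPerfect ↥P := isPerfect_iff.mpr dP.pc.perfect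
      let g : ↥P → ↥(center ↥B) := fun p =>
        ⟨⟨qm D ⟨⁅d, (p : G)⁆, (hdL p p.2).2⟩, mem_map_of_mem _ (mem_subgroupOf.2 (hmemP p p.2))⟩,
          mem_center_iff.2 fun y => Subtype.ext (by
            obtain ⟨q, hq, hqy⟩ := y.2
            rw [Subgroup.coe_mul, Subgroup.coe_mul, ← hqy]
            refine commutatorElement_eq_one_iff_mul_comm.1 ?_
            rw [← map_commutatorElement]
            exact (mem_cr_iff (x := ⁅(q : G), ⁅d, (p : G)⁆⁆) (⁅q, (⟨_, (hdL p p.2).2⟩ : ↥D)⁆).2).1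
              (hc (commutator_mem_commutator (mem_subgroupOf.1 hq) (hdL p p.2))))⟩
      let g' : ↥P →* ↥(center ↥B) :=
        { toFun := g
          map_one' := by
            refine Subtype.ext (Subtype.ext ?_)
            refine (mem_cr_iff _).1 ?_
            simp
          map_mul' := fun p p' => by
            refine Subtype.ext (Subtype.ext ?_)
            show qm D ⟨⁅d, ((p * p' : ↥P) : G)⁆, _⟩ =
              qm D ⟨⁅d, (p : G)⁆, _⟩ * qm D ⟨⁅d, (p' : G)⁆, _⟩
            have hpD : (p : G) ∈ D := dP.pc.le p.2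
            have e1 : (⟨⁅d, ((p * p' : ↥P) : G)⁆, (hdL _ (p * p').2).2⟩ : ↥D) =
                ⟨⁅d, (p : G)⁆, (hdL p p.2).2⟩ *
                  (⟨p, hpD⟩ * ⟨⁅d, (p' : G)⁆, (hdL p' p'.2).2⟩ * ⟨p, hpD⟩⁻¹) :=
              Subtype.ext (by simp [commutatorElement_def]; group)
            rw [e1, map_mul, map_mul, map_mul, map_inv]
            have h2 : qm D ⟨p, hpD⟩ * qm D ⟨⁅d, (p' : G)⁆, (hdL p' p'.2).2⟩ =
                qm D ⟨⁅d, (p' : G)⁆, (hdL p' p'.2).2⟩ * qm D ⟨p, hpD⟩ :=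
              congrArg Subtype.val (mem_center_iff.1 (g p').2
                ⟨qm D ⟨p, hpD⟩, mem_map_of_mem _ (mem_subgroupOf.2 p.2)⟩)
            rw [h2, mul_inv_cancel_right] }
      haveI : Group.IsSolvable ↥(center ↥B) :=
        Group.isSolvable_of_comm fun u w => Subtype.ext (mem_center_iff.1 w.2 u)
      have h1 := eq_one_of_solvable_range g' inferInstance
      intro p hp
      exact (mem_cr_iff (hdL p hp).2).2
        (congrArg (fun c : ↥(center ↥B) => (c : ↥B).1) (DFunLike.congr_fun h1 ⟨p, hp⟩))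
    intro p hp
    by_contra hpK
    have hpC : p ∈ cz k := (dP.pc.le hp).2
    set d' := p * d * p⁻¹ with hd'
    have hd'K : d' ∈ cmap p K := conj_mem_cmap hdK
    set o := d⁻¹ * d' with ho
    have hoD : o ∈ cr D := by
      have := conj_mem_cr (inv_mem dND) (inv_mem (hcen p hp))
      rwa [show d⁻¹ * ⁅d, p⁆⁻¹ * d⁻¹⁻¹ = o by rw [ho, hd']; simp only [commutatorElement_def]; group]
        at this
    have hdC : d ∈ cz k := hK.le hdK
    have hd'C : d' ∈ cz k := mul_mem (mul_mem hpC hdC) (inv_mem hpC)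
    have hoC : o ∈ cz k := mul_mem (inv_mem hdC) hd'C
    have hcomm : Commute (qm (cz k) ⟨d, hdC⟩) (qm (cz k) ⟨d', hd'C⟩) := by
      refine commutatorElement_eq_one_iff_mul_comm.1 ?_
      rw [← map_commutatorElement]
      exact (mem_cr_iff (x := ⁅d, d'⁆) (⁅(⟨d, hdC⟩ : ↥(cz k)), (⟨d', hd'C⟩ : ↥(cz k))⁆).2).1
        (hK.inter_central hpC hpK hd'K d hdK)
    have hd'2 : d' * d' = k := by
      rw [hd', show p * d * p⁻¹ * (p * d * p⁻¹) = p * (d * d) * p⁻¹ by group, hd2, mem_cz.1 hpC,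
        mul_inv_cancel_right]
    have hsq : qm (cz k) ⟨o, hoC⟩ ^ 2 = 1 := by
      have e1 : qm (cz k) ⟨o, hoC⟩ = (qm (cz k) ⟨d, hdC⟩)⁻¹ * qm (cz k) ⟨d', hd'C⟩ :=
        (map_mul (qm (cz k)) ⟨d, hdC⟩⁻¹ ⟨d', hd'C⟩).trans (by rw [map_inv])
      rw [e1, hcomm.inv_left.mul_pow, inv_pow, pow_two, pow_two, ← map_mul, ← map_mul,
        show (⟨d, hdC⟩ : ↥(cz k)) * ⟨d, hdC⟩ = ⟨d', hd'C⟩ * ⟨d', hd'C⟩ from
          Subtype.ext (hd2.trans hd'2.symm), inv_mul_cancel]
    have ho1 : qm (cz k) ⟨o, hoC⟩ = 1 := by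
      refine orderOf_eq_one_iff.1 (Nat.eq_one_of_dvd_coprimes (a := 2) (b := orderOf o) ?_
        (orderOf_dvd_of_pow_eq_one hsq) ?_)
      · exact (Balance.coprime_orderOf_of_mem_core' hoD).symm
      · refine (orderOf_map_dvd (qm (cz k)) ⟨o, hoC⟩).trans ?_
        rw [Subgroup.orderOf_mk]
    have hdd : qm (cz k) ⟨d, hdC⟩ = qm (cz k) ⟨d', hd'C⟩ := by
      have e1 : qm (cz k) ⟨o, hoC⟩ = (qm (cz k) ⟨d, hdC⟩)⁻¹ * qm (cz k) ⟨d', hd'C⟩ :=
        (map_mul (qm (cz k)) ⟨d, hdC⟩⁻¹ ⟨d', hd'C⟩).trans (by rw [map_inv])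
      rw [e1] at ho1
      exact inv_mul_eq_one.1 ho1
    have hdc : ∀ j ∈ K, ⁅j, d⁆ ∈ cr (cz k) := fun j hj => by
      have hjC := hK.le hj
      refine (mem_cr_iff (x := ⁅j, d⁆) (⁅(⟨j, hjC⟩ : ↥(cz k)), (⟨d, hdC⟩ : ↥(cz k))⁆).2).2 ?_
      show qm (cz k) ⁅(⟨j, hjC⟩ : ↥(cz k)), ⟨d, hdC⟩⁆ = 1
      rw [map_commutatorElement, hdd, ← map_commutatorElement]
      exact (mem_cr_iff (x := ⁅j, d'⁆) (⁅(⟨j, hjC⟩ : ↥(cz k)), (⟨d', hd'C⟩ : ↥(cz k))⁆).2).1
        (hK.inter_central hpC hpK hd'K j hj)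
    obtain ⟨n, hn⟩ := exists_pow_two_eq_one hT1 hdT
    rcases hK.eq_one_or_of_central uK hdK hn hdc with h1 | h1
    · exact hk1 (by rw [← hd2, h1, one_mul])
    · exact hk1 (by rw [← hd2, h1, hk2])
  -- `P` centralises `K` modulo the core
  have hPKc : ⁅P, K⁆ ≤ cr (cz k) := by
    refine keyG hFT hS hout hK tK (dP.pc.le.trans inf_le_right) dP.pc.perfect dP.typ hPK (β := z)
      (mem_cz.2 hzk) hzK (fun g hg => ?_) ⟨d, hdK, ?_⟩
    · rw [commutatorElement_eq_one_iff_mul_comm.2 (mem_cz.1 (dP.pc.le hg).1)]; exact one_mem _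
    · intro hc
      rw [commutatorElement_def, hzd, show d * k * d⁻¹ = k from Dk] at hc
      exact hk1 (eq_one_of_mem_cr hc (k := 1) (by rw [pow_one, pow_two, hk2]))
  have De : d * e * d⁻¹ = e := by
    rw [← commute_of_mem_cr hT1 eT1 hdT (hPKc (commutator_mem_commutator ePmem hdK)), mul_inv_cancel_right]
  have Df : d * f * d⁻¹ = f := by
    rw [← commute_of_mem_cr hT1 fT1 hdT (hPKc (commutator_mem_commutator fPmem hdK)), mul_inv_cancel_right]
  -- the conjugating element `h`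
  set A : G →* G := (MulAut.conj a).toMonoidHom with hA
  set Dd : G →* G := (MulAut.conj d).toMonoidHom with hDd
  have rules : A z = z ∧ A k = z * (k * e) ∧ A e = e ∧ A f = z * f ∧
      Dd z = z * k ∧ Dd k = k ∧ Dd e = e ∧ Dd f = f := ⟨Az, Ak, Ae, Af, Dz, Dk, De, Df⟩
  obtain ⟨rAz, rAk, rAe, rAf, rDz, rDk, rDe, rDf⟩ := rules
  set h := a * d * a⁻¹ with hh
  set H : G →* G := (MulAut.conj h).toMonoidHom with hH
  have hHx : ∀ x : G, x * z = z * x → H x = A (Dd (A x)) := fun x hx => by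
    have e1 : a⁻¹ * x * a = a * x * a⁻¹ := by
      calc a⁻¹ * x * a = (a * z) * x * a := by rw [hainv]
        _ = a * (z * x) * a := by group
        _ = a * (x * z) * a := by rw [hx]
        _ = a * x * (z * a) := by group
        _ = a * x * (a * z) := by rw [haz]
        _ = a * x * a⁻¹ := by rw [hainv]
    show h * x * h⁻¹ = a * (d * (a * x * a⁻¹) * d⁻¹) * a⁻¹
    rw [← e1, hh]; group
  have zl := comm_left kz
  have ezl := comm_left ez
  have ekl := comm_left ek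
  have fzl := comm_left fz
  have fkl := comm_left fk
  have fel := comm_left fe
  have z2l : ∀ x : G, z * (z * x) = x := fun x => by rw [← mul_assoc, hz2, one_mul]
  have k2l : ∀ x : G, k * (k * x) = x := fun x => by rw [← mul_assoc, hk2, one_mul]
  have e2l : ∀ x : G, e * (e * x) = x := fun x => by rw [← mul_assoc, ee, one_mul]
  have f2l : ∀ x : G, f * (f * x) = x := fun x => by rw [← mul_assoc, ff, one_mul]
  have Hz : H z = k * e := by
    rw [hHx z rfl]
    simp only [map_mul, rAz, rAk, rAe, rAf, rDz, rDk, rDe, rDf, mul_assoc, kz, ez, ek, fz, fk, fe,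
      zl, ezl, ekl, fzl, fkl, fel, hz2, hk2, ee, ff, z2l, k2l, e2l, f2l, mul_one, one_mul]
  have Hk : H k = z * e := by
    rw [hHx k kz]
    simp only [map_mul, rAz, rAk, rAe, rAf, rDz, rDk, rDe, rDf, mul_assoc, kz, ez, ek, fz, fk, fe,
      zl, ezl, ekl, fzl, fkl, fel, hz2, hk2, ee, ff, z2l, k2l, e2l, f2l, mul_one, one_mul]
  have He : H e = e := by
    rw [hHx e ez]; simp only [rAe, rDe]
  have Hf : H f = z * (k * (e * f)) := by
    rw [hHx f fz]
    simp only [map_mul, rAz, rAk, rAe, rAf, rDz, rDk, rDe, rDf, mul_assoc, kz, ez, ek, fz, fk, fe,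
      zl, ezl, ekl, fzl, fkl, fel, hz2, hk2, ee, ff, z2l, k2l, e2l, f2l, mul_one, one_mul]
  set y := H a with hy
  have hyconj : ∀ x : G, y * H x * y⁻¹ = H (A x) := fun x => by
    rw [hy, ← map_inv, ← map_mul, ← map_mul]; rfl
  have yk : y * k * y⁻¹ = k := by
    have e1 : H (z * e) = k := by
      simp only [map_mul, Hz, He, mul_assoc, ee, mul_one]
    have := hyconj (z * e)
    rwa [map_mul A, rAz, rAe, e1] at this
  have ye : y * e * y⁻¹ = e := by
    have := hyconj e; rwa [rAe, He] at this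
  have yf : y * f * y⁻¹ = e * f := by
    have e1 : H (z * (k * (e * f))) = f := by
      simp only [map_mul, Hz, Hk, He, Hf, mul_assoc, kz, ez, ek, fz, fk, fe,
        zl, ezl, ekl, fzl, fkl, fel, hz2, hk2, ee, ff, z2l, k2l, e2l, f2l, mul_one, one_mul]
    have := hyconj (z * (k * (e * f)))
    rw [e1] at this
    rw [this]
    simp only [map_mul, rAz, rAk, rAe, rAf, Hz, Hk, He, Hf, mul_assoc, kz, ez, ek, fz, fk, fe,
      zl, ezl, ekl, fzl, fkl, fel, hz2, hk2, ee, ff, z2l, k2l, e2l, f2l, mul_one, one_mul]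
  set J1 := cmap h J with hJ1
  set z1 := k * e with hz1def
  have hzh : h * z * h⁻¹ = z1 := Hz
  have hJ1C : PC J1 (cz z1) := hzh ▸ hJ.conj_cz h
  have uJ1 : Uniq J1 z1 := hzh ▸ uJ.cmap h
  have tJ1 : Typ S J1 := tJ.cmap h
  have hyJ1 : y ∈ J1 := conj_mem_cmap ha.2
  have hy2 : y * y = z1 := by rw [hy, ← map_mul, ha2]; exact Hz
  have hz11 : z1 ≠ 1 := fun h' => hek (eq_inv_of_mul_eq_one_right h' |>.trans hkinv)
  have fz1 : f * z1 = z1 * f := by
    simp only [hz1def, mul_assoc, fk, fe, fkl, fel, ekl, ek]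
  have fmv : f ∉ normalizer (J1 : Set G) := by
    intro hf1
    have hmem : e ∈ J1 := by
      have := mul_mem hyJ1 ((mem_normalizer_iff.1 hf1 _).1 (inv_mem hyJ1))
      rwa [show y * (f * y⁻¹ * f⁻¹) = (y * f * y⁻¹) * f⁻¹ by group, yf, mul_inv_cancel_right] at this
    rcases uJ1.eq_or hmem ee with h1 | h1
    · exact he1 h1
    · exact hk1 (mul_right_cancel (b := e) (by rw [one_mul]; exact h1.symm))
  have sw1 : Swap J1 (cz z1) f := ⟨hJ1C, mem_cz.2 fz1, ff, fmv⟩
  obtain ⟨P1, dP1⟩ := sw1.exists_diag hFT hS tJ1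
  set D5 := cz z1 ⊓ cz f with hD5
  have yE : y * e = e * y := mul_inv_eq_iff_eq_mul.1 ye
  have fy : f * y * f⁻¹ = e * y := by
    rw [inv_eq_of_mul_eq_one_right ff]
    have h1 : y * f = e * f * y := mul_inv_eq_iff_eq_mul.1 yf
    rw [mul_assoc, h1, ← mul_assoc, ← mul_assoc, fe, mul_assoc e, ff, mul_one]
  have hcomm : y * (f * y * f⁻¹) = f * y * f⁻¹ * y := by
    rw [fy, ← mul_assoc, yE]
  have hkprod : y * (f * y * f⁻¹) = k := by
    rw [fy, ← mul_assoc, yE, mul_assoc, hy2, hz1def, ← mul_assoc, ek, mul_assoc, ee, mul_one]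
  have kP1 : k ∈ P1 := hkprod ▸ dP1.mem y hyJ1 hcomm 1 (by rw [hkprod, pow_one, pow_two, hk2])
  have kncen : ¬ ∀ p ∈ P1, ⁅k, p⁆ ∈ cr D5 := by
    intro hc
    have hc' := dP1.noncentral y hyJ1 hcomm (by rwa [hkprod])
    have hy4 : y ^ 2 ^ 2 = 1 := by
      rw [show (2 : ℕ) ^ 2 = 2 * 2 from rfl, pow_mul, pow_two, pow_two, hy2, uJ1.sq]
    rcases hJ1C.eq_one_or_of_central uJ1 hyJ1 hy4 hc' with h1 | h1
    · exact hz11 (by rw [← hy2, h1, one_mul])
    · exact hz11 (by rw [← hy2, h1, uJ1.sq])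
  have hCk : D5 ⊓ cz k ≤ normalizer (P1 : Set G) := by
    intro g hg
    refine mem_normalizer_of_cmap_eq ?_
    by_contra hne
    apply kncen
    intro p hp
    have hk' : k ∈ cmap g P1 := by
      have := conj_mem_cmap (g := g) kP1
      rwa [mem_cz.1 hg.2, mul_inv_cancel_right] at this
    have := (dP1.pc.conj_of_mem hg.1).commutator_le dP1.pc hne (commutator_mem_commutator hk' hp)
    exact this
  -- a perfect subgroup covering `K`
  set X := (cz k ⊓ (cz e ⊓ cz f)) ⊓ ((img K (cz k)).comap (qm (cz k))).map (cz k).subtype with hX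
  let φ : ↥X →* ↥(img K (cz k)) :=
    ((qm (cz k)).comp (Subgroup.inclusion (inf_le_left.trans inf_le_left : X ≤ cz k))).codRestrict _
      fun x => by
        obtain ⟨w, hw, hwx⟩ := x.2.2
        have : w = ⟨x, x.2.1.1⟩ := Subtype.ext hwx
        show qm (cz k) ⟨x, x.2.1.1⟩ ∈ _
        rw [← this]; exact hw
  have hφ : Function.Surjective φ := by
    rintro ⟨q, hq⟩
    obtain ⟨g, hg, rfl⟩ := id hq
    have hker : (Nat.card ↥(qm (cz k)).ker).Coprime 2 := by
      rw [QuotientGroup.ker_mk']; exact PCore.coprime_card_pPrimeCore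
    have hR : IsPGroup 2 ↥(closure ({(⟨e, mem_cz.2 ek⟩ : ↥(cz k)), ⟨f, mem_cz.2 fk⟩} : Set ↥(cz k))) := by
      refine (hT1.of_equiv (subgroupOfEquivOfLe hT1C).symm).to_le ((closure_le _).2 ?_)
      rintro _ (rfl | rfl)
      · exact eT1
      · exact fT1
    have hc : ∀ r ∈ closure ({(⟨e, mem_cz.2 ek⟩ : ↥(cz k)), ⟨f, mem_cz.2 fk⟩} : Set ↥(cz k)),
        Commute (qm (cz k) g) (qm (cz k) r) := by
      intro r hr
      have hgen : ∀ (x : G) (hxC : x ∈ cz k), x ∈ P →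
          qm (cz k) ⟨x, hxC⟩ * qm (cz k) g = qm (cz k) g * qm (cz k) ⟨x, hxC⟩ := fun x hxC hxP => by
        refine commutatorElement_eq_one_iff_mul_comm.1 ?_
        rw [← map_commutatorElement]
        exact (mem_cr_iff (x := ⁅x, (g : G)⁆) (⁅(⟨x, hxC⟩ : ↥(cz k)), g⁆).2).1
          (hPKc (commutator_mem_commutator hxP (mem_subgroupOf.1 hg)))
      have hr' : r ∈ (centralizer ({qm (cz k) g} : Set _)).comap (qm (cz k)) := by
        refine (closure_le _).2 ?_ hr
        rintro _ (rfl | rfl)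
        · exact mem_centralizer_singleton_iff.2 (hgen e _ ePmem)
        · exact mem_centralizer_singleton_iff.2 (hgen f _ fPmem)
      exact (mem_centralizer_singleton_iff.1 hr').symm
    obtain ⟨n, hn, hne⟩ := Balance.exists_mem_centralizer_of_map (qm (cz k)) hker hR hc
    have hne' : (n : G) * e = e * n ∧ (n : G) * f = f * n := by
      constructor
      · exact (congrArg Subtype.val (mem_centralizer_iff.1 hn _ (subset_closure (Set.mem_insert _ _)))).symm
      · exact (congrArg Subtype.val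
          (mem_centralizer_iff.1 hn _ (subset_closure (Set.mem_insert_of_mem _ rfl)))).symm
    exact ⟨⟨n, ⟨⟨n.2, mem_cz.2 hne'.1, mem_cz.2 hne'.2⟩, n,
      (show qm (cz k) n ∈ img K (cz k) by rw [hne]; exact hq), rfl⟩⟩, Subtype.ext hne⟩
  haveI : Group.IsPerfect ↥(img K (cz k)) := hK.img_comp.2.1
  obtain ⟨N, hNp, hNt⟩ := exists_perfect_le φ hφ
  set Γ := N.map X.subtype with hΓ
  have hΓp : ⁅Γ, Γ⁆ = Γ := by rw [hΓ, ← map_commutator, hNp]
  have hΓX : Γ ≤ X := map_subtype_le _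
  have hXD5 : X ≤ D5 ⊓ cz k := fun x hx => by
    obtain ⟨⟨h1, h2, h3⟩, -⟩ := hx
    exact ⟨⟨mem_cz.2 ((show Commute x k from mem_cz.1 h1).mul_right (mem_cz.1 h2)).eq, h3⟩, h1⟩
  have hodd : Group.IsSolvable φ.ker := by
    refine hFT _ ((Nat.coprime_two_right.1 (Balance.card_core'_coprime (p := 2) (cz k))).of_dvd_nat ?_)
    let j : ↥φ.ker →* ↥(cr (cz k)) := (X.subtype.comp φ.ker.subtype).codRestrict _ fun x =>
      (mem_cr_iff x.1.2.1.1).2 (congrArg Subtype.val x.2)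
    exact card_dvd_of_injective j fun a b hab =>
      Subtype.ext (Subtype.ext (congrArg (fun y : ↥(cr (cz k)) => (y : G)) hab))
  have kΓ : k ∈ Γ := by
    obtain ⟨n, hn, hnk⟩ : (⟨qm (cz k) ⟨k, mem_cz.2 rfl⟩,
        mem_map_of_mem _ (mem_subgroupOf.2 uK.mem)⟩ : ↥(img K (cz k))) ∈ N.map φ := hNt ▸ mem_top _
    set o := k * (n : G) with ho
    have hnC : (n : G) ∈ cz k := n.2.1.1
    have hoC : o ∈ cz k := mul_mem (mem_cz.2 rfl) hnC
    have hocr : o ∈ cr (cz k) := by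
      refine (mem_cr_iff hoC).2 ?_
      rw [show (⟨o, hoC⟩ : ↥(cz k)) = ⟨k, mem_cz.2 rfl⟩ * ⟨n, hnC⟩ from rfl, map_mul]
      have := congrArg Subtype.val hnk
      change qm (cz k) ⟨n, hnC⟩ = qm (cz k) ⟨k, mem_cz.2 rfl⟩ at this
      rw [this, ← map_mul, show (⟨k, mem_cz.2 rfl⟩ : ↥(cz k)) * ⟨k, mem_cz.2 rfl⟩ = 1 from
        Subtype.ext hk2, map_one]
    obtain ⟨r, hr⟩ := odd_orderOf_cr hocr
    have hok : Commute k (n : G) := (mem_cz.1 hnC).symm
    have h1 : o ^ (2 * r + 1) = 1 := hr ▸ pow_orderOf_eq_one o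
    rw [ho, hok.mul_pow, pow_succ k, pow_mul, pow_two, hk2, one_pow, one_mul,
      mul_eq_one_iff_eq_inv] at h1
    have h2 : k = (n : G) ^ (2 * r + 1) := by rw [← hkinv, h1, inv_inv]
    exact h2 ▸ pow_mem (mem_map_of_mem _ hn) _
  have tΓ : Typ S Γ := by
    obtain ⟨π, hπ⟩ := exists_img_surjective hFT hS hK tK
    let g : ↥Γ →* ↥(img K (cz k)) := φ.comp (Subgroup.inclusion hΓX)
    have hg : Function.Surjective g := fun q => by
      obtain ⟨n, hn, rfl⟩ : q ∈ N.map φ := hNt ▸ mem_top q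
      exact ⟨⟨n, mem_map_of_mem _ hn⟩, rfl⟩
    refine ⟨π.comp g, hπ.comp hg, ?_⟩
    have hgker : Group.IsSolvable g.ker := by
      haveI := hodd
      exact Group.isSolvable_of_isSolvable_injective
        (f := ((Subgroup.inclusion hΓX).comp g.ker.subtype).codRestrict φ.ker fun x => x.2)
        fun u w hab => Subtype.ext (Subgroup.inclusion_injective hΓX (congrArg Subtype.val hab))
    have hπk : Group.IsSolvable π.ker := by
      rw [ker_eq_center hS hK.img_comp.2 hπ]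
      exact Group.isSolvable_of_comm fun u w => Subtype.ext (mem_center_iff.1 w.2 u)
    haveI := hgker; haveI := hπk
    let f1 : ↥(π.comp g).ker →* ↥π.ker := (g.comp (π.comp g).ker.subtype).codRestrict _ fun x => x.2
    let g1 : ↥g.ker →* ↥(π.comp g).ker := g.ker.subtype.codRestrict _ fun x => by
      rw [MonoidHom.mem_ker, MonoidHom.comp_apply]
      show π (g x) = 1
      rw [show g x = 1 from x.2, map_one]
    exact Group.isSolvable_of_ker_le_range g1 f1 fun x hx =>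
      ⟨⟨x, congrArg Subtype.val hx⟩, Subtype.ext rfl⟩
  apply kncen
  intro p hp
  refine keyG hFT hS hout dP1.pc dP1.typ (hΓX.trans (hXD5.trans inf_le_left)) hΓp tΓ
    (hΓX.trans (hXD5.trans hCk)) (β := k) (dP1.pc.le kP1) (Subgroup.le_normalizer kP1)
    (fun g hg => ?_) ?_ (commutator_mem_commutator kΓ hp)
  · rw [commutatorElement_eq_one_iff_mul_comm.2 (mem_cz.1 (hXD5 (hΓX hg)).2)]; exact one_mem _
  · by_contra hno
    push Not at hno
    exact kncen hno

end Cfsg.Agent.SL2Comp
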