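import Cfsg.Agent.Lib.SL2Comp.Key

/-!
# The diagonal component of a swapped pair of 2-components

If the involution `v` of `H` moves the 2-component `J`, then `C_H(v)` has a 2-component `P` which covers
`{x x^v : x ∈ J}` modulo `O(H)`.
-/

set_option autoImplicit false
set_option linter.unusedSectionVars false
set_option linter.style.haveILetI false

namespace Cfsg.Agent.SL2Comp

open Subgroup Cfsg
open scoped commutatorElement

universe u

local instance : Fact (Nat.Prime 2) := ⟨Nat.prime_two⟩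

variable {G : Type u} [Group G] [Finite G]

/-- `J` is moved by the involution `v` of `H`. -/
structure Swap (J H : Subgroup G) (v : G) : Prop where
  pc : PC J H
  memH : v ∈ H
  inv : v * v = 1
  moved : v ∉ normalizer (J : Set G)

namespace Swap

variable {J H : Subgroup G} {v : G}

theorem inv_eq (h : Swap J H v) : v⁻¹ = v := inv_eq_of_mul_eq_one_right h.inv

theorem pc' (h : Swap J H v) : PC (cmap v J) H := h.pc.conj_of_mem h.memH

theorem ne (h : Swap J H v) : J ≠ cmap v J := fun he => h.moved (mem_normalizer_of_cmap_eq he.symm)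

theorem cmap_cmap_self (h : Swap J H v) : cmap v (cmap v J) = J := by
  rw [cmap_cmap, h.inv, cmap_one]

/-- The image of `v`. -/
abbrev vbar (h : Swap J H v) : ↥H ⧸ pPrimeCore 2 ↥H := qm H ⟨v, h.memH⟩

theorem conj_mem_img' (h : Swap J H v) {x : ↥H ⧸ pPrimeCore 2 ↥H} (hx : x ∈ img J H) :
    h.vbar * x * h.vbar⁻¹ ∈ img (cmap v J) H := by
  obtain ⟨y, hy, rfl⟩ := hx
  refine ⟨⟨v, h.memH⟩ * y * ⟨v, h.memH⟩⁻¹, ?_, by simp⟩
  exact mem_subgroupOf.2 (conj_mem_cmap (mem_subgroupOf.1 hy))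

theorem commute_img (h : Swap J H v) {x y : ↥H ⧸ pPrimeCore 2 ↥H} (hx : x ∈ img J H)
    (hy : y ∈ img J H) : Commute x (h.vbar * y * h.vbar⁻¹) := by
  have h0 := Components.IsComponent.commutator_eq_bot h.pc.img_comp h.pc'.img_comp (h.pc.img_ne h.pc' h.ne)
  rw [Subgroup.commutator_eq_bot_iff_le_centralizer] at h0
  exact (mem_centralizer_iff.1 (h0 hx) _ (h.conj_mem_img' hy)).symm

theorem vbar_sq (h : Swap J H v) : h.vbar * h.vbar = 1 := by
  rw [← map_mul, show (⟨v, h.memH⟩ : ↥H) * ⟨v, h.memH⟩ = 1 from Subtype.ext h.inv, map_one]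

/-- `x ↦ x x^v` on the image of `J`. -/
noncomputable def diag (h : Swap J H v) : ↥(img J H) →* ↥H ⧸ pPrimeCore 2 ↥H where
  toFun x := x.1 * (h.vbar * x.1 * h.vbar⁻¹)
  map_one' := by simp
  map_mul' a b := by
    have hc := h.commute_img b.2 a.2
    calc (a.1 * b.1) * (h.vbar * (a.1 * b.1) * h.vbar⁻¹)
        = a.1 * (b.1 * (h.vbar * a.1 * h.vbar⁻¹)) * (h.vbar * b.1 * h.vbar⁻¹) := by group
      _ = a.1 * ((h.vbar * a.1 * h.vbar⁻¹) * b.1) * (h.vbar * b.1 * h.vbar⁻¹) := by rw [hc.eq]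
      _ = (a.1 * (h.vbar * a.1 * h.vbar⁻¹)) * (b.1 * (h.vbar * b.1 * h.vbar⁻¹)) := by group

theorem diag_apply (h : Swap J H v) (x : ↥(img J H)) :
    h.diag x = x.1 * (h.vbar * x.1 * h.vbar⁻¹) := rfl

theorem diag_ker_le (h : Swap J H v) : h.diag.ker ≤ center ↥(img J H) := by
  intro x hx
  rw [MonoidHom.mem_ker, diag_apply] at hx
  refine mem_center_iff.2 fun y => Subtype.ext ?_
  have hc : Commute (y : ↥H ⧸ pPrimeCore 2 ↥H) (x : ↥H ⧸ pPrimeCore 2 ↥H)⁻¹ := by
    rw [inv_eq_of_mul_eq_one_right hx]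
    exact h.commute_img y.2 x.2
  simpa using hc.inv_right.eq

theorem vbar_commute_diag (h : Swap J H v) (x : ↥(img J H)) : Commute h.vbar (h.diag x) := by
  have hc := h.commute_img x.2 x.2
  have hv : h.vbar⁻¹ = h.vbar := inv_eq_of_mul_eq_one_right h.vbar_sq
  show h.vbar * h.diag x = h.diag x * h.vbar
  rw [diag_apply]
  calc h.vbar * (x.1 * (h.vbar * x.1 * h.vbar⁻¹))
      = (h.vbar * x.1 * h.vbar⁻¹) * (h.vbar * h.vbar) * x.1 * h.vbar⁻¹ := by group
    _ = (h.vbar * x.1 * h.vbar⁻¹) * x.1 * h.vbar⁻¹ := by rw [h.vbar_sq, mul_one]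
    _ = x.1 * (h.vbar * x.1 * h.vbar⁻¹) * h.vbar⁻¹ := by rw [hc.eq]
    _ = x.1 * (h.vbar * x.1 * h.vbar⁻¹) * h.vbar := by rw [hv]

/-- The full preimage of the diagonal in `C_H(v)`. -/
noncomputable def diagSub (h : Swap J H v) : Subgroup G :=
  (H ⊓ cz v) ⊓ (h.diag.range.comap (qm H)).map H.subtype

theorem mem_diagSub (h : Swap J H v) {g : G} :
    g ∈ h.diagSub ↔ ∃ hg : g ∈ H, g * v = v * g ∧ qm H ⟨g, hg⟩ ∈ h.diag.range := by
  constructor
  · rintro ⟨⟨hgH, hgv⟩, y, hy, rfl⟩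
    exact ⟨y.2, mem_cz.1 hgv, hy⟩
  · rintro ⟨hg, hc, hr⟩
    exact ⟨⟨hg, mem_cz.2 hc⟩, ⟨g, hg⟩, hr, rfl⟩

theorem diagSub_le (h : Swap J H v) : h.diagSub ≤ H ⊓ cz v := inf_le_left

/-- `D = C_H(v)` permutes `J` and its partner through the normaliser of `J`. -/
theorem diagSub_le_layer (h : Swap J H v) :
    h.diagSub ≤ (H ⊓ cz v) ⊓ (((pLayer 2 ↥H) ⊔ pPrimeCore 2 ↥H).map H.subtype) := by
  intro g hg
  refine ⟨h.diagSub_le hg, ?_⟩
  obtain ⟨hgH, -, x, hx⟩ := h.mem_diagSub.1 hg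
  refine ⟨⟨g, hgH⟩, ?_, rfl⟩
  have h1 : ∀ y ∈ img J H ⊔ img (cmap v J) H,
      y ∈ ((pLayer 2 ↥H) ⊔ pPrimeCore 2 ↥H).map (qm H) := by
    refine fun y hy => (sup_le ?_ ?_ : _ ≤ ((pLayer 2 ↥H) ⊔ pPrimeCore 2 ↥H).map (qm H)) hy
    · exact map_mono ((Components.IsPComponent.le_pLayer h.pc.comp).trans le_sup_left)
    · exact map_mono ((Components.IsPComponent.le_pLayer h.pc'.comp).trans le_sup_left)
  have h2 : qm H ⟨g, hgH⟩ ∈ ((pLayer 2 ↥H) ⊔ pPrimeCore 2 ↥H).map (qm H) := by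
    refine h1 _ ?_
    rw [← hx, diag_apply]
    exact mul_mem (mem_sup_left x.2) (mem_sup_right (h.conj_mem_img' x.2))
  obtain ⟨y, hy, hxy⟩ := h2
  have : (⟨g, hgH⟩ : ↥H) = y * (y⁻¹ * ⟨g, hgH⟩) := by group
  rw [this]
  refine mul_mem hy (mem_sup_right ((QuotientGroup.eq_one_iff _).1 ?_))
  rw [← QuotientGroup.mk'_apply, map_mul, map_inv, hxy, inv_mul_cancel]

theorem layer_sup_le_normalizer (h : Swap J H v) :
    ((pLayer 2 ↥H) ⊔ pPrimeCore 2 ↥H).map H.subtype ≤ normalizer (J : Set G) := by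
  rw [Subgroup.map_sup]
  exact sup_le h.pc.layer_le_normalizer h.pc.cr_le_normalizer

theorem diagSub_normalized (h : Swap J H v) :
    (H ⊓ cz v) ⊓ normalizer (J : Set G) ≤ normalizer (h.diagSub : Set G) := by
  refine le_normalizer_iff.2 fun g hg m hm => ?_
  obtain ⟨⟨hgH, hgv⟩, hgJ⟩ := hg
  obtain ⟨hmH, hmv, x, hx⟩ := h.mem_diagSub.1 hm
  refine h.mem_diagSub.2 ⟨mul_mem (mul_mem hgH hmH) (inv_mem hgH), ?_, ?_⟩
  · exact mem_cz.1 (mul_mem (mul_mem hgv (mem_cz.2 hmv)) (inv_mem hgv))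
  · set a := qm H ⟨g, hgH⟩ with ha
    have hav : a * h.vbar = h.vbar * a := by
      rw [← map_mul, ← map_mul]; exact congrArg _ (Subtype.ext (mem_cz.1 hgv))
    refine ⟨⟨a * x.1 * a⁻¹, (mem_normalizer_iff.1 (mem_normalizer_img hgH hgJ) x.1).1 x.2⟩, ?_⟩
    rw [show (⟨g * m * g⁻¹, mul_mem (mul_mem hgH hmH) (inv_mem hgH)⟩ : ↥H) =
      ⟨g, hgH⟩ * ⟨m, hmH⟩ * ⟨g, hgH⟩⁻¹ from rfl, map_mul, map_mul, map_inv, ← hx,
      diag_apply, diag_apply]
    have e2 : h.vbar * a * x.1 * a⁻¹ * h.vbar⁻¹ = a * (h.vbar * x.1 * h.vbar⁻¹) * a⁻¹ := by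
      calc h.vbar * a * x.1 * a⁻¹ * h.vbar⁻¹ = (h.vbar * a) * x.1 * (h.vbar * a)⁻¹ := by group
        _ = (a * h.vbar) * x.1 * (a * h.vbar)⁻¹ := by rw [hav]
        _ = a * (h.vbar * x.1 * h.vbar⁻¹) * a⁻¹ := by group
    calc a * x.1 * a⁻¹ * (h.vbar * (a * x.1 * a⁻¹) * h.vbar⁻¹)
        = a * x.1 * a⁻¹ * (h.vbar * a * x.1 * a⁻¹ * h.vbar⁻¹) := by group
      _ = a * x.1 * a⁻¹ * (a * (h.vbar * x.1 * h.vbar⁻¹) * a⁻¹) := by rw [e2]
      _ = a * (x.1 * (h.vbar * x.1 * h.vbar⁻¹)) * a⁻¹ := by group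

theorem diagSub_isSubnormal (h : Swap J H v) :
    (h.diagSub.subgroupOf (H ⊓ cz v)).IsSubnormal := by
  set D := H ⊓ cz v with hD
  set W := D ⊓ (((pLayer 2 ↥H) ⊔ pPrimeCore 2 ↥H).map H.subtype) with hW
  have hWn : (W.subgroupOf D).Normal := by
    refine normal_subgroupOf_of_le_normalizer ((le_inf le_normalizer ?_).trans inf_normalizer_le_normalizer_inf)
    haveI : (pLayer 2 ↥H).Normal := Components.pLayer_normal
    haveI hn : ((pLayer 2 ↥H) ⊔ pPrimeCore 2 ↥H).Normal := inferInstance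
    refine le_normalizer_iff.2 ?_
    rintro g hg _ ⟨y, hy, rfl⟩
    exact ⟨⟨g, hg.1⟩ * y * ⟨g, hg.1⟩⁻¹, hn.conj_mem y hy _, rfl⟩
  refine Subgroup.IsSubnormal.step _ (W.subgroupOf D) (fun x hx => h.diagSub_le_layer hx)
    hWn.isSubnormal ?_
  have hle : W ≤ normalizer (h.diagSub : Set G) := fun g hg =>
    h.diagSub_normalized ⟨hg.1, h.layer_sup_le_normalizer hg.2⟩
  refine normal_subgroupOf_of_le_normalizer ?_
  intro x hx
  exact PC.subgroupOf_mem_normalizer x.2 (hle hx)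

theorem exists_lift (h : Swap J H v) (x : ↥(img J H)) :
    ∃ m ∈ h.diagSub, ∃ hm : m ∈ H, qm H ⟨m, hm⟩ = h.diag x := by
  obtain ⟨g, hg⟩ := QuotientGroup.mk'_surjective (pPrimeCore 2 ↥H) (h.diag x)
  have hker : (Nat.card ↥(qm H).ker).Coprime 2 := by
    rw [QuotientGroup.ker_mk']; exact PCore.coprime_card_pPrimeCore
  have hvs : (⟨v, h.memH⟩ : ↥H) ^ 2 ^ 1 = 1 := Subtype.ext (by simp [pow_two, h.inv])
  have hR : IsPGroup 2 ↥(zpowers (⟨v, h.memH⟩ : ↥H)) := by
    intro y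
    obtain ⟨m, hm⟩ := y.2
    refine ⟨1, Subtype.ext ?_⟩
    rw [SubmonoidClass.coe_pow, OneMemClass.coe_one, ← hm, ← zpow_natCast, ← zpow_mul, mul_comm,
      zpow_mul, zpow_natCast, hvs, one_zpow]
  have hc : ∀ r ∈ zpowers (⟨v, h.memH⟩ : ↥H), Commute (qm H g) (qm H r) := by
    rintro _ ⟨m, rfl⟩
    rw [map_zpow, hg]
    exact ((h.vbar_commute_diag x).zpow_left m).symm
  obtain ⟨n, hn, he⟩ := Balance.exists_mem_centralizer_of_map (qm H) hker hR hc
  have hnv : (n : G) * v = v * n :=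
    (congrArg Subtype.val (mem_centralizer_iff.1 hn ⟨v, h.memH⟩ (mem_zpowers _))).symm
  exact ⟨n, h.mem_diagSub.2 ⟨n.2, hnv, x, by rw [Subtype.coe_eta, he, hg]⟩, n.2,
    by rw [Subtype.coe_eta, he, hg]⟩

end Swap

/-- The diagonal component. -/
structure IsDiag (S : Type u) [Group S] (J H : Subgroup G) (v : G) (P : Subgroup G) : Prop where
  pc : PC P (H ⊓ cz v)
  typ : Typ S P
  le_normalizer : P ≤ normalizer (J : Set G)
  /-- elements normalising `P` permute the pair -/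
  fix : ∀ g ∈ H ⊓ cz v, g ∈ normalizer (P : Set G) → cmap g J = J ∨ cmap g J = cmap v J
  fix_perfect : ∀ Γ : Subgroup G, Γ ≤ H ⊓ cz v → ⁅Γ, Γ⁆ = Γ → Γ ≤ normalizer (P : Set G) →
    Γ ≤ normalizer (J : Set G)
  mem : ∀ a ∈ J, a * (v * a * v⁻¹) = v * a * v⁻¹ * a →
    ∀ k : ℕ, (a * (v * a * v⁻¹)) ^ 2 ^ k = 1 → a * (v * a * v⁻¹) ∈ P
  noncentral : ∀ a ∈ J, a * (v * a * v⁻¹) = v * a * v⁻¹ * a →
    (∀ p ∈ P, ⁅a * (v * a * v⁻¹), p⁆ ∈ cr (H ⊓ cz v)) → ∀ j ∈ J, ⁅j, a⁆ ∈ cr H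

variable {S : Type u} [Group S] [Finite S] [IsSimpleGroup S]

theorem Swap.exists_diag (hFT : FTConsumers.OddOrder.{u}) (hS : ¬ IsMulCommutative S)
    {J H : Subgroup G} {v : G} (h : Swap J H v) (tJ : Typ S J) :
    ∃ P, IsDiag S J H v P := by
  set D := H ⊓ cz v with hD
  set M := h.diagSub with hM
  have hMD : M ≤ D := h.diagSub_le
  obtain ⟨π, hπ⟩ := exists_img_surjective hFT hS h.pc tJ
  have hker := ker_eq_center hS h.pc.img_comp.2 hπ
  -- the diagonal and its map onto `S`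
  set δ := h.diag.rangeRestrict with hδ
  have hδs : Function.Surjective δ := h.diag.rangeRestrict_surjective
  have hδk : δ.ker ≤ π.ker := by
    rw [hδ, MonoidHom.ker_rangeRestrict, hker]; exact h.diag_ker_le
  set πR : ↥h.diag.range →* S := δ.liftOfSurjective hδs ⟨π, hδk⟩ with hπR
  have hπR' : ∀ x, πR (δ x) = π x := fun x => MonoidHom.liftOfRightInverse_comp_apply _ _ _ _ x
  have hπRs : Function.Surjective πR := fun s => by
    obtain ⟨x, rfl⟩ := hπ s; exact ⟨δ x, hπR' x⟩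
  have hqR : IsQuasisimple ↥h.diag.range := by
    haveI : Nontrivial S := IsSimpleGroup.toNontrivial
    haveI : Nontrivial ↥h.diag.range := hπRs.nontrivial
    exact Components.IsQuasisimple.of_surjective h.pc.img_comp.2 δ hδs
  -- the preimage
  let φ : ↥M →* ↥h.diag.range :=
    ((qm H).comp (Subgroup.inclusion (hMD.trans inf_le_left))).codRestrict _
      fun m => (h.mem_diagSub.1 m.2).choose_spec.2
  have hφs : Function.Surjective φ := by
    rintro ⟨_, x, rfl⟩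
    obtain ⟨m, hm, hmH, he⟩ := h.exists_lift x
    exact ⟨⟨m, hm⟩, Subtype.ext he⟩
  set πM := πR.comp φ with hπM
  have hπMs : Function.Surjective πM := hπRs.comp hφs
  have hMcr : ∀ m : ↥M, (m : G) ∈ cr H → φ m = 1 := fun m hm =>
    Subtype.ext ((mem_cr_iff _).1 hm)
  have hkφ : Group.IsSolvable φ.ker := by
    refine hFT _ ((Nat.coprime_two_right.1 (Balance.card_core'_coprime (p := 2) H)).of_dvd_nat ?_)
    let j : ↥φ.ker →* ↥(cr H) := (M.subtype.comp φ.ker.subtype).codRestrict _ fun x =>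
      (mem_cr_iff _).2 (congrArg Subtype.val x.2)
    exact card_dvd_of_injective j fun a b hab =>
      Subtype.ext (Subtype.ext (congrArg (fun y : ↥(cr H) => (y : G)) hab))
  have hkR : Group.IsSolvable πR.ker := by
    have : πR.ker ≤ center ↥h.diag.range := by
      intro r hr
      obtain ⟨x, rfl⟩ := hδs r
      rw [MonoidHom.mem_ker, hπR', ← MonoidHom.mem_ker, hker] at hr
      refine mem_center_iff.2 fun w => ?_
      obtain ⟨y, rfl⟩ := hδs w
      rw [← map_mul, ← map_mul, mem_center_iff.1 hr y]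
    exact Group.isSolvable_of_comm fun a b => Subtype.ext (mem_center_iff.1 (this b.2) a)
  have hkM : Group.IsSolvable πM.ker := by
    haveI := hkφ; haveI := hkR
    let f : ↥πM.ker →* ↥πR.ker := (φ.comp πM.ker.subtype).codRestrict _ fun x => x.2
    let g : ↥φ.ker →* ↥πM.ker := φ.ker.subtype.codRestrict _ fun x => by
      rw [MonoidHom.mem_ker, hπM, MonoidHom.comp_apply]
      show πR (φ x) = 1
      rw [show φ x = 1 from x.2, map_one]
    exact Group.isSolvable_of_ker_le_range g f fun x hx =>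
      ⟨⟨x, congrArg Subtype.val hx⟩, Subtype.ext rfl⟩
  -- the image in `D / O(D)`
  have hcrD : ∀ m ∈ M, m ∈ cr H → m ∈ cr D := fun m hm hc =>
    Balance.core'_inf_le (p := 2) (inf_le_left : D ≤ H) ⟨hc, hMD hm⟩
  let χ : ↥M →* ↥(img M D) :=
    ((qm D).subgroupMap (M.subgroupOf D)).comp (subgroupOfEquivOfLe hMD).symm.toMonoidHom
  have hχs : Function.Surjective χ :=
    ((qm D).subgroupMap_surjective _).comp (subgroupOfEquivOfLe hMD).symm.surjective
  have hχv : ∀ m : ↥M, (χ m : ↥D ⧸ pPrimeCore 2 ↥D) = qm D ⟨m, hMD m.2⟩ := fun _ => rfl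
  have hφχ : φ.ker ≤ χ.ker := fun m hm => by
    refine Subtype.ext ?_
    rw [hχv]
    exact (mem_cr_iff (hMD m.2)).1 (hcrD _ m.2 ((mem_cr_iff _).2 (congrArg Subtype.val hm)))
  have hcrπ : ∀ m : ↥M, (m : G) ∈ cr D → πM m = 1 := by
    set N := (cr D).subgroupOf M with hN
    have hNn : N.Normal := normal_subgroupOf_of_le_normalizer (hMD.trans (Balance.le_normalizer_core' D))
    have hNs : Group.IsSolvable N := by
      refine hFT _ ((Nat.coprime_two_right.1 (Balance.card_core'_coprime (p := 2) D)).of_dvd_nat ?_)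
      let j : ↥N →* ↥(cr D) := (M.subtype.comp N.subtype).codRestrict _ fun x => x.2
      exact card_dvd_of_injective j fun a b hab =>
        Subtype.ext (Subtype.ext (congrArg (fun y : ↥(cr D) => (y : G)) hab))
    exact fun m hm => le_ker_of_solvable_normal hS hπMs hNn hNs hm
  have hcomp : IsComponent (img M D) := by
    refine ⟨h.diagSub_isSubnormal.map (QuotientGroup.mk'_surjective _), ?_⟩
    haveI : Nontrivial ↥(img M D) := by
      rw [nontrivial_iff_ne_bot]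
      intro hb
      haveI : Nontrivial S := IsSimpleGroup.toNontrivial
      obtain ⟨s, hs⟩ := exists_ne (1 : S)
      obtain ⟨m, rfl⟩ := hπMs s
      apply hs (hcrπ m ((mem_cr_iff (hMD m.2)).2 ?_))
      have h2 : (χ m).1 ∈ (⊥ : Subgroup _) := hb.le (χ m).2
      rwa [mem_bot, hχv] at h2
    refine Components.IsQuasisimple.of_surjective hqR (φ.liftOfSurjective hφs ⟨χ, hφχ⟩) fun y => ?_
    obtain ⟨m, rfl⟩ := hχs y
    exact ⟨φ m, MonoidHom.liftOfRightInverse_comp_apply _ _ _ _ _⟩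
  set C := Components.pComponentOf 2 (img M D) with hC
  set P := C.map D.subtype with hP
  have hPD : P ≤ D := map_subtype_le _
  have hPC : P.subgroupOf D = C := comap_map_eq_self_of_injective D.subtype_injective C
  have pcP : PC P D := ⟨hPD, hPC ▸ Components.isPComponent_pComponentOf hcomp⟩
  have hPM : P ≤ M := by
    have := map_mono (f := D.subtype)
      (Components.pComponentOf_le_of_map_eq h.diagSub_isSubnormal (rfl : img M D = img M D))
    rwa [map_subgroupOf_eq_of_le hMD] at this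
  set πP := πM.comp (Subgroup.inclusion hPM) with hπP
  have hπPs : Function.Surjective πP := by
    intro s
    obtain ⟨m, rfl⟩ := hπMs s
    have hm : qm D ⟨m, hMD m.2⟩ ∈ C.map (qm D) := by
      rw [hC, Components.map_pComponentOf hcomp]
      exact mem_map_of_mem _ (mem_subgroupOf.2 m.2)
    obtain ⟨p, hp, he⟩ := hm
    have hpP : (p : G) ∈ P := ⟨p, hp, rfl⟩
    refine ⟨⟨p, hpP⟩, ?_⟩
    have h1 : πM ((⟨p, hPM hpP⟩ : ↥M)⁻¹ * m) = 1 := by
      refine hcrπ _ ((mem_cr_iff (mul_mem (inv_mem p.2) (hMD m.2))).2 ?_)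
      rw [show (⟨(p : G)⁻¹ * m, mul_mem (inv_mem p.2) (hMD m.2)⟩ : ↥D) = p⁻¹ * ⟨m, hMD m.2⟩ from rfl,
        map_mul, map_inv, he, inv_mul_cancel]
    rw [map_mul, map_inv, inv_mul_eq_one] at h1
    exact h1
  have hfix : ∀ g ∈ D, g ∈ normalizer (P : Set G) → cmap g J = J ∨ cmap g J = cmap v J := by
    intro g hg hgP
    by_contra hno
    push Not at hno
    have hgH : g ∈ H := hg.1
    have hgv : g * v = v * g := mem_cz.1 hg.2
    -- `J^g` centralises the diagonal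
    have hA := h.pc.conj_of_mem hgH
    have c1 := Components.IsComponent.commutator_eq_bot hA.img_comp h.pc.img_comp (hA.img_ne h.pc hno.1)
    have c2 := Components.IsComponent.commutator_eq_bot hA.img_comp h.pc'.img_comp
      (hA.img_ne h.pc' hno.2)
    rw [Subgroup.commutator_eq_bot_iff_le_centralizer] at c1 c2
    have key : ∀ p ∈ P, ∀ j ∈ J, ⁅p, j⁆ ∈ cr H := by
      intro p hp j hj
      have hgpP : g * p * g⁻¹ ∈ P := (mem_normalizer_iff.1 hgP p).1 hp
      obtain ⟨hpH, -, x, hx⟩ := h.mem_diagSub.1 (hPM hgpP)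
      have hjH : g * j * g⁻¹ ∈ H := mul_mem (mul_mem hgH (h.pc.le hj)) (inv_mem hgH)
      have hy : qm H ⟨g * j * g⁻¹, hjH⟩ ∈ img (cmap g J) H :=
        mem_map_of_mem _ (mem_subgroupOf.2 (conj_mem_cmap hj))
      have hcom : Commute (qm H ⟨g * p * g⁻¹, hpH⟩) (qm H ⟨g * j * g⁻¹, hjH⟩) := by
        rw [← hx, diag_apply]
        exact Commute.mul_left (mem_centralizer_iff.1 (c1 hy) _ x.2)
          (mem_centralizer_iff.1 (c2 hy) _ (h.conj_mem_img' x.2))
      have h1 : ⁅g * p * g⁻¹, g * j * g⁻¹⁆ ∈ cr H := by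
        refine (mem_cr_iff (⁅(⟨_, hpH⟩ : ↥H), (⟨_, hjH⟩ : ↥H)⁆).2).2 ?_
        exact (map_commutatorElement (qm H) _ _).trans (commutatorElement_eq_one_iff_commute.2 hcom)
      have h2 := conj_mem_cr (Subgroup.le_normalizer (inv_mem hgH)) h1
      rwa [show g⁻¹ * ⁅g * p * g⁻¹, g * j * g⁻¹⁆ * g⁻¹⁻¹ = ⁅p, j⁆ by
        simp only [commutatorElement_def]; group] at h2
    haveI : Nontrivial S := IsSimpleGroup.toNontrivial
    obtain ⟨s, hs⟩ := exists_ne (1 : S)
    obtain ⟨p, rfl⟩ := hπPs s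
    apply hs
    obtain ⟨hpH, -, x, hx⟩ := h.mem_diagSub.1 (hPM p.2)
    have hxc : x ∈ center ↥(img J H) := by
      refine mem_center_iff.2 fun y => Subtype.ext ?_
      obtain ⟨j, hj, hjy⟩ := y.2
      have hpj : Commute (qm H ⟨p, hpH⟩) y.1 := by
        rw [← hjy]
        refine commutatorElement_eq_one_iff_commute.1 ?_
        rw [← map_commutatorElement]
        exact (mem_cr_iff (⁅(⟨p, hpH⟩ : ↥H), j⁆).2).1 (key p p.2 j (mem_subgroupOf.1 hj))
      have h2 : Commute (h.vbar * x.1 * h.vbar⁻¹) y.1 := (h.commute_img y.2 x.2).symm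
      have h3 := hpj.mul_left (h2.inv_left)
      rw [← hx, diag_apply, mul_inv_cancel_right] at h3
      exact h3.eq.symm
    show πR (φ ⟨p, hPM p.2⟩) = 1
    rw [show φ ⟨p, hPM p.2⟩ = δ x from Subtype.ext hx.symm, hπR']
    exact MonoidHom.mem_ker.1 (hker ▸ hxc)
  refine ⟨P, pcP, ⟨πP, hπPs, ?_⟩, fun x hx => h.layer_sup_le_normalizer (h.diagSub_le_layer (hPM hx)).2,
    hfix, ?_, ?_, ?_⟩
  · haveI := hkM
    exact Group.isSolvable_of_isSolvable_injective
      (f := ((Subgroup.inclusion hPM).comp πP.ker.subtype).codRestrict πM.ker fun x => x.2)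
      fun a b hab => Subtype.ext (Subgroup.inclusion_injective hPM (congrArg Subtype.val hab))
  · intro Γ hΓ hperf hΓP
    classical
    haveI : Group.IsPerfect ↥Γ := isPerfect_iff.mpr hperf
    have hcases : ∀ g : ↥Γ, cmap (g : G) J = J ∨ cmap (g : G) J = cmap v J :=
      fun g => hfix g (hΓ g.2) (hΓP g.2)
    have hswap : ∀ g : ↥Γ, cmap (g : G) (cmap v J) = cmap v (cmap (g : G) J) := fun g => by
      rw [cmap_cmap, cmap_cmap, mem_cz.1 (hΓ g.2).2]
    let f : ↥Γ →* ℤˣ :=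
      { toFun := fun g => if cmap (g : G) J = J then 1 else -1
        map_one' := by simp [cmap_one]
        map_mul' := fun g g' => by
          have e : cmap ((g : G) * (g' : G)) J = cmap (g : G) (cmap (g' : G) J) :=
            (cmap_cmap _ _ _).symm
          rcases hcases g with hg | hg <;> rcases hcases g' with hg' | hg' <;>
            simp [e, hg, hg', hswap, h.cmap_cmap_self, Ne.symm h.ne] }
    have hf := eq_one_of_solvable_range f (haveI : Group.IsSolvable ℤˣ := Group.isSolvable_of_comm mul_comm; inferInstance)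
    intro g hg
    refine mem_normalizer_of_cmap_eq ?_
    by_contra hne
    have := DFunLike.congr_fun hf ⟨g, hg⟩
    simp [f, hne] at this
  · intro a ha hcomm k hk
    have haH : a ∈ H := h.pc.le ha
    have hvaH : v * a * v⁻¹ ∈ H := mul_mem (mul_mem h.memH haH) (inv_mem h.memH)
    have hmem : a * (v * a * v⁻¹) ∈ M := by
      refine h.mem_diagSub.2 ⟨mul_mem haH hvaH, ?_,
        ⟨qm H ⟨a, haH⟩, mem_map_of_mem _ (mem_subgroupOf.2 ha)⟩, ?_⟩
      · have e := hcomm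
        rw [h.inv_eq] at e ⊢
        calc a * (v * a * v) * v = a * v * a * (v * v) := by group
          _ = a * v * a := by rw [h.inv, mul_one]
          _ = (v * v) * (a * v * a) := by rw [h.inv, one_mul]
          _ = v * ((v * a * v) * a) := by group
          _ = v * (a * (v * a * v)) := by rw [e]
      · rw [diag_apply]
        exact ((map_mul (qm H) ⟨a, haH⟩ ⟨v * a * v⁻¹, hvaH⟩).trans (congrArg _ (by
          rw [show (⟨v * a * v⁻¹, hvaH⟩ : ↥H) = ⟨v, h.memH⟩ * ⟨a, haH⟩ * ⟨v, h.memH⟩⁻¹ from rfl,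
            map_mul, map_mul, map_inv]))).symm
    exact ⟨⟨_, hMD hmem⟩, Components.mem_pElementClosure (k := k)
      (mem_map_of_mem _ (mem_subgroupOf.2 hmem)) (Subtype.ext (by simpa using hk)), rfl⟩
  · intro a ha hcomm hcen j hj
    have haH : a ∈ H := h.pc.le ha
    have hvaH : v * a * v⁻¹ ∈ H := mul_mem (mul_mem h.memH haH) (inv_mem h.memH)
    set xa : ↥(img J H) := ⟨qm H ⟨a, haH⟩, mem_map_of_mem _ (mem_subgroupOf.2 ha)⟩ with hxa
    obtain ⟨m, hm, hmH, hme⟩ := h.exists_lift xa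
    have hcenter : π xa ∈ center S := by
      refine mem_center_iff.2 fun s => ?_
      obtain ⟨p, rfl⟩ := hπPs s
      -- `m` and `a a'` agree modulo `O(H)`, hence commute with `P` modulo the cores
      have hpH : (p : G) ∈ H := (hPD p.2).1
      obtain ⟨_, -, x, hx⟩ := h.mem_diagSub.1 (hPM p.2)
      have e1 : qm H ⟨a * (v * a * v⁻¹), mul_mem haH hvaH⟩ = h.diag xa := by
        rw [diag_apply, hxa]
        exact (map_mul (qm H) ⟨a, haH⟩ ⟨v * a * v⁻¹, hvaH⟩).trans (congrArg _ (by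
          rw [show (⟨v * a * v⁻¹, hvaH⟩ : ↥H) = ⟨v, h.memH⟩ * ⟨a, haH⟩ * ⟨v, h.memH⟩⁻¹ from rfl,
            map_mul, map_mul, map_inv]))
      have hmemM : a * (v * a * v⁻¹) ∈ M := by
        refine h.mem_diagSub.2 ⟨mul_mem haH hvaH, ?_, xa, e1.symm⟩
        rw [h.inv_eq] at hcomm ⊢
        calc a * (v * a * v) * v = a * v * a * (v * v) := by group
          _ = a * v * a := by rw [h.inv, mul_one]
          _ = (v * v) * (a * v * a) := by rw [h.inv, one_mul]
          _ = v * ((v * a * v) * a) := by group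
          _ = v * (a * (v * a * v)) := by rw [hcomm]
      have h1 : πM ⁅(⟨_, hmemM⟩ : ↥M), ⟨p, hPM p.2⟩⁆ = 1 := hcrπ _ (hcen p p.2)
      have h2 : πM ⟨_, hmemM⟩ = π xa := by
        show πR (φ _) = _
        rw [show φ ⟨_, hmemM⟩ = δ xa from Subtype.ext e1, hπR']
      rw [map_commutatorElement, commutatorElement_eq_one_iff_mul_comm, h2] at h1
      exact h1.symm
    have hz : π xa = 1 := by
      rcases (inferInstance : (center S).Normal).eq_bot_or_eq_top with hb | ht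
      · rw [hb] at hcenter; exact mem_bot.1 hcenter
      · exact absurd ⟨⟨fun x y => (mem_center_iff.1 (ht ▸ mem_top x) y).symm⟩⟩ hS
    have hc : xa ∈ center ↥(img J H) := hker ▸ MonoidHom.mem_ker.2 hz
    have hjH := h.pc.le hj
    refine (mem_cr_iff (⁅(⟨j, hjH⟩ : ↥H), (⟨a, haH⟩ : ↥H)⁆).2).2
      ((map_commutatorElement (qm H) _ _).trans (commutatorElement_eq_one_iff_mul_comm.2 ?_))
    exact congrArg Subtype.val
      (mem_center_iff.1 hc ⟨qm H ⟨j, hjH⟩, mem_map_of_mem _ (mem_subgroupOf.2 hj)⟩)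

end Cfsg.Agent.SL2Comp
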